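import Cfsg.Agent.StdRank2.HexRank
import Cfsg.Agent.StdRank2.HexFacts
import Cfsg.Agent.TriTwo.Basic
import Cfsg.Agent.StdEven.Syl
import Cfsg.Agent.OddHalf.D4.Spor.Transport
import Cfsg.Agent.TriTwo.SecOne

-- merged: Cfsg.Agent.StdRank2.HexMod
section

/-!
# The modules of the rank one subgroups of a hexagonal root system in characteristic two (S1778)

`k` even (long), `L = ⟨X_k, X_{k+6}⟩ ≅ SL₂(F)`:
* `W_act` : `L` acts on `W = X_{k+2} X_{k+4}` as on `F²`;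
* `W_irred` : a subgroup `1 < Y ≤ W` normalised by `X_k`, `X_{k+6}` is `W`;
* `short_act` : `L` acts on `X_{k+1} X_{k+5} X_{k+2} X_{k+3} X_{k+4} / X_{k+2} X_{k+3} X_{k+4}` as on `E²`.
`k` odd (short), `L = ⟨X_k, X_{k+6}⟩ ≅ SL₂(E)`:
see `HexModS.lean`.
-/

set_option autoImplicit false

namespace Cfsg.Agent.StdRank2.Hex

open Cfsg.Agent.SplitTwo Cfsg.Agent.SuzukiRankOne.SLTwoRel
open Matrix (SpecialLinearGroup)
open scoped commutatorElement

/-! ### Generation of `SL₂` -/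

/-- every diagonal matrix is a product of `U`'s and `Tm`'s -/
theorem Dg_eq {K : Type*} [Field K] [CharP K 2] (c : Kˣ) :
    Dg c = U (c : K) * Tm K * U ((c⁻¹ : Kˣ) : K) * Tm K * U (c : K) * Tm K := by
  apply mat_ext
  have hc : (c : K) ≠ 0 := c.ne_zero
  rw [mat_mul, mat_mul, mat_mul, mat_mul, mat_mul, U_mat, U_mat, Tm_mat, Dg_mat, Matrix.mul_fin_two,
    Matrix.mul_fin_two, Matrix.mul_fin_two, Matrix.mul_fin_two, Matrix.mul_fin_two]
  simp [hc, CharTwo.add_self_eq_zero]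

/-- induction on `SL₂(K)` -/
theorem sl_induction {K : Type*} [Field K] [CharP K 2] {Q : SpecialLinearGroup (Fin 2) K → Prop}
    (hU : ∀ a, Q (U a)) (hT : Q (Tm K)) (hmul : ∀ A B, Q A → Q B → Q (A * B)) (A : SpecialLinearGroup (Fin 2) K) :
    Q A := by
  have hD : ∀ c : Kˣ, Q (Dg c) := fun c => by
    rw [Dg_eq]
    exact hmul _ _ (hmul _ _ (hmul _ _ (hmul _ _ (hmul _ _ (hU _) hT) (hU _)) hT) (hU _)) hT
  rcases exists_form A with ⟨a, c, rfl⟩ | ⟨a, c, b, rfl⟩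
  · exact hmul _ _ (hU a) (hD c)
  · exact hmul _ _ (hmul _ _ (hmul _ _ (hU a) (hD c)) hT) (hU b)

namespace HexTwo

variable {E : Type*} [Field E] {σ : E ≃+* E} {Γ : Type*} [Group Γ] {x : ZMod 12 → E → Γ} (h : HexTwo σ x)

include h

omit h in
theorem conj_eq_mod {a b c : Γ} (e : ⁅a, b⁆ = c) : a * b * a⁻¹ = c * b := by
  rw [← e, commutatorElement_def]
  group

section even

variable {k : ZMod 12} (hk : k.val % 2 = 0)

include hk

omit h in
omit [Field E] in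
theorem even_add_two : (k + 2).val % 2 = 0 := by rw [val_add_2]; exact hk

omit h in
theorem even_add_four : (k + 4).val % 2 = 0 := by rw [val_add_4]; exact hk

/-- `x_k(t)` acts on `X_{k+2} X_{k+4}` -/
theorem W_up {t p q : E} (ht : σ t = t) (hp : σ p = p) (hq : σ q = q) :
    x k t * (x (k + 2) p * x (k + 4) q) * (x k t)⁻¹ = x (k + 2) (p + t * q) * x (k + 4) q := by
  have h1 := conj_eq_mod (h.commL2 hk ht hp)
  have h2 := conj_eq_mod (h.commL4 hk ht hq)
  rw [one_mul] at h1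
  calc x k t * (x (k + 2) p * x (k + 4) q) * (x k t)⁻¹ =
      (x k t * x (k + 2) p * (x k t)⁻¹) * (x k t * x (k + 4) q * (x k t)⁻¹) := by group
    _ = x (k + 2) p * x (k + 2) (t * q) * x (k + 4) q := by rw [h1, h2, mul_assoc]
    _ = _ := by rw [← h.add (k + 2) p (t * q) (ok_of_fix _ hp) (ok_of_fix _ (by rw [map_mul, ht, hq]))]

/-- the reflection acts on `X_{k+2} X_{k+4}` -/
theorem W_nn {p q : E} (hp : σ p = p) (hq : σ q = q) :
    nn x k * (x (k + 2) p * x (k + 4) q) * (nn x k)⁻¹ = x (k + 2) q * x (k + 4) p := by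
  have e1 : ∀ k : ZMod 12, 2 * k + 6 - (k + 2) = k + 4 := by decide
  have e2 : ∀ k : ZMod 12, 2 * k + 6 - (k + 4) = k + 2 := by decide
  have c : x (k + 4) p * x (k + 2) q = x (k + 2) q * x (k + 4) p := by
    have h1 := conj_eq_mod (h.commL2 (k := k + 2) (even_add_two hk) hq hp)
    have e3 : ∀ k : ZMod 12, k + 2 + 2 = k + 4 := by decide
    rw [e3, one_mul, mul_inv_eq_iff_eq_mul] at h1
    exact h1.symm
  calc nn x k * (x (k + 2) p * x (k + 4) q) * (nn x k)⁻¹ =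
      (nn x k * x (k + 2) p * (nn x k)⁻¹) * (nn x k * x (k + 4) q * (nn x k)⁻¹) := by group
    _ = _ := by rw [h.refl k _ (ok_of_fix _ hp), h.refl k _ (ok_of_fix _ hq), e1, e2, c]

/-- **`L_k` acts on `W = X_{k+2} X_{k+4}` as on the natural module.** -/
theorem W_act [Finite E] {K : Type*} [Field K] [CharP K 2] {ι : K →+* E} (P : Par σ k ι)
    {θ : SpecialLinearGroup (Fin 2) K →* Γ} (h1 : ∀ a, θ (U a) = x k (ι a)) (h3 : θ (Tm K) = nn x k)
    (A : SpecialLinearGroup (Fin 2) K) (p q : K) :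
    θ A * (x (k + 2) (ι p) * x (k + 4) (ι q)) * (θ A)⁻¹ =
      x (k + 2) (ι (A.1 0 0 * p + A.1 0 1 * q)) * x (k + 4) (ι (A.1 1 0 * p + A.1 1 1 * q)) := by
  have hf : ∀ a, σ (ι a) = ι a := fun a => P.ok a hk
  -- closure under products
  have hmul : ∀ A B : SpecialLinearGroup (Fin 2) K,
      (∀ p q, θ A * (x (k + 2) (ι p) * x (k + 4) (ι q)) * (θ A)⁻¹ =
        x (k + 2) (ι (A.1 0 0 * p + A.1 0 1 * q)) * x (k + 4) (ι (A.1 1 0 * p + A.1 1 1 * q))) →
      (∀ p q, θ B * (x (k + 2) (ι p) * x (k + 4) (ι q)) * (θ B)⁻¹ =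
        x (k + 2) (ι (B.1 0 0 * p + B.1 0 1 * q)) * x (k + 4) (ι (B.1 1 0 * p + B.1 1 1 * q))) →
      (∀ p q, θ (A * B) * (x (k + 2) (ι p) * x (k + 4) (ι q)) * (θ (A * B))⁻¹ =
        x (k + 2) (ι ((A * B).1 0 0 * p + (A * B).1 0 1 * q)) *
          x (k + 4) (ι ((A * B).1 1 0 * p + (A * B).1 1 1 * q))) := by
    intro A B hA hB p q
    rw [map_mul]
    have e : θ A * θ B * (x (k + 2) (ι p) * x (k + 4) (ι q)) * (θ A * θ B)⁻¹ =
        θ A * (θ B * (x (k + 2) (ι p) * x (k + 4) (ι q)) * (θ B)⁻¹) * (θ A)⁻¹ := by group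
    rw [e, hB, hA]
    have e1 : (A * B).1 = A.1 * B.1 := rfl
    rw [e1, Matrix.mul_apply, Matrix.mul_apply, Matrix.mul_apply, Matrix.mul_apply, Fin.sum_univ_two,
      Fin.sum_univ_two, Fin.sum_univ_two, Fin.sum_univ_two]
    congr 3 <;> ring
  have hU : ∀ a p q, θ (U a) * (x (k + 2) (ι p) * x (k + 4) (ι q)) * (θ (U a))⁻¹ =
        x (k + 2) (ι ((U a).1 0 0 * p + (U a).1 0 1 * q)) * x (k + 4) (ι ((U a).1 1 0 * p + (U a).1 1 1 * q)) := by
    intro a p q
    have e00 : (U a).1 0 0 = 1 := rfl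
    have e01 : (U a).1 0 1 = a := rfl
    have e10 : (U a).1 1 0 = 0 := rfl
    have e11 : (U a).1 1 1 = 1 := rfl
    rw [h1, h.W_up hk (hf a) (hf p) (hf q), e00, e01, e10, e11, one_mul, one_mul, zero_mul, zero_add, map_add,
      map_mul]
  have hT : ∀ p q, θ (Tm K) * (x (k + 2) (ι p) * x (k + 4) (ι q)) * (θ (Tm K))⁻¹ =
        x (k + 2) (ι ((Tm K).1 0 0 * p + (Tm K).1 0 1 * q)) *
          x (k + 4) (ι ((Tm K).1 1 0 * p + (Tm K).1 1 1 * q)) := by
    intro p q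
    have e00 : (Tm K).1 0 0 = 0 := rfl
    have e01 : (Tm K).1 0 1 = 1 := rfl
    have e10 : (Tm K).1 1 0 = 1 := rfl
    have e11 : (Tm K).1 1 1 = 0 := rfl
    rw [h3, h.W_nn hk (hf p) (hf q), e00, e01, e10, e11, one_mul, one_mul, zero_mul, zero_mul, zero_add, add_zero]
  -- every element is a product of `U`'s and `Tm`
  have hDg : ∀ c : Kˣ, Dg c = U (c : K) * Tm K * U ((c⁻¹ : Kˣ) : K) * Tm K * U (c : K) * Tm K := by
    intro c
    apply mat_ext
    have hc : (c : K) ≠ 0 := c.ne_zero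
    have hcc : (c : K) + c = 0 := CharTwo.add_self_eq_zero _
    rw [mat_mul, mat_mul, mat_mul, mat_mul, mat_mul, U_mat, U_mat, Tm_mat, Dg_mat, Matrix.mul_fin_two,
      Matrix.mul_fin_two, Matrix.mul_fin_two, Matrix.mul_fin_two, Matrix.mul_fin_two]
    simp [hc, CharTwo.add_self_eq_zero]
  have hD : ∀ (c : Kˣ) (p q), θ (Dg c) * (x (k + 2) (ι p) * x (k + 4) (ι q)) * (θ (Dg c))⁻¹ =
        x (k + 2) (ι ((Dg c).1 0 0 * p + (Dg c).1 0 1 * q)) *
          x (k + 4) (ι ((Dg c).1 1 0 * p + (Dg c).1 1 1 * q)) := by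
    intro c
    rw [hDg c]
    exact hmul _ _ (hmul _ _ (hmul _ _ (hmul _ _ (hmul _ _ (hU _) hT) (hU _)) hT) (hU _)) hT
  revert p q
  rcases exists_form A with ⟨a, c, rfl⟩ | ⟨a, c, b, rfl⟩
  · exact hmul _ _ (hU a) (hD c)
  · exact hmul _ _ (hmul _ _ (hmul _ _ (hU a) (hD c)) hT) (hU b)

/-- **`W` is irreducible.** -/
theorem W_irred {Y : Subgroup Γ} (hY : Y ≤ gen σ x {k + 2, k + 4}) (hne : Y ≠ ⊥)
    (h0 : ∀ t, σ t = t → ∀ y ∈ Y, x k t * y * (x k t)⁻¹ ∈ Y)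
    (h6 : ∀ t, σ t = t → ∀ y ∈ Y, x (k + 6) t * y * (x (k + 6) t)⁻¹ ∈ Y) : Y = gen σ x {k + 2, k + 4} := by
  have e24 : ∀ k : ZMod 12, k + 2 + 2 = k + 4 := by decide
  -- normal form in `W`
  have nf : ∀ g ∈ gen σ x {k + 2, k + 4}, ∃ p q, σ p = p ∧ σ q = q ∧ g = x (k + 2) p * x (k + 4) q := by
    intro g hg
    have hcomm : ∀ p q, σ p = p → σ q = q → x (k + 4) q * x (k + 2) p = x (k + 2) p * x (k + 4) q := by
      intro p q hp hq
      have h1 := conj_eq_mod (h.commL2 (k := k + 2) (even_add_two hk) hp hq)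
      rw [e24, one_mul, mul_inv_eq_iff_eq_mul] at h1
      exact h1.symm
    let W : Subgroup Γ :=
      { carrier := {g | ∃ p q, σ p = p ∧ σ q = q ∧ g = x (k + 2) p * x (k + 4) q}
        one_mem' := ⟨0, 0, map_zero σ, map_zero σ, by rw [h.x_zero, h.x_zero, one_mul]⟩
        mul_mem' := by
          rintro _ _ ⟨p, q, hp, hq, rfl⟩ ⟨p', q', hp', hq', rfl⟩
          refine ⟨p + p', q + q', by rw [map_add, hp, hp'], by rw [map_add, hq, hq'], ?_⟩
          rw [h.add _ _ _ (ok_of_fix _ hp) (ok_of_fix _ hp'), h.add _ _ _ (ok_of_fix _ hq) (ok_of_fix _ hq')]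
          calc x (k + 2) p * x (k + 4) q * (x (k + 2) p' * x (k + 4) q') =
              x (k + 2) p * (x (k + 4) q * x (k + 2) p') * x (k + 4) q' := by group
            _ = _ := by rw [hcomm p' q hp' hq]; group
        inv_mem' := by
          rintro _ ⟨p, q, hp, hq, rfl⟩
          refine ⟨p, q, hp, hq, ?_⟩
          rw [mul_inv_rev, h.x_inv (ok_of_fix _ hp), h.x_inv (ok_of_fix _ hq), hcomm p q hp hq] }
    have : gen σ x {k + 2, k + 4} ≤ W := by
      refine gen_le fun l hl a ha => ?_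
      rcases hl with rfl | hl
      · have ha' := ha (even_add_two hk)
        exact ⟨a, 0, ha', map_zero σ, by rw [h.x_zero, mul_one]⟩
      · rw [Set.mem_singleton_iff] at hl
        subst hl
        have ha' := ha (even_add_four hk)
        exact ⟨0, a, map_zero σ, ha', by rw [h.x_zero, one_mul]⟩
    exact this hg
  -- a subgroup containing one element of one of the two groups contains everything
  have up : ∀ q, q ≠ 0 → σ q = q → x (k + 4) q ∈ Y → ∀ u, σ u = u → x (k + 2) u ∈ Y := by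
    intro q hq0 hq hqY u hu
    have ht : σ (u * q⁻¹) = u * q⁻¹ := by rw [map_mul, map_inv₀, hu, hq]
    have h1 := h0 _ ht _ hqY
    have h2 := h.W_up hk ht (map_zero σ) hq
    rw [h.x_zero, one_mul, zero_add, inv_mul_cancel_right₀ hq0] at h2
    rw [h2] at h1
    have h3 := mul_mem h1 (inv_mem hqY)
    rwa [mul_inv_cancel_right] at h3
  have down : ∀ p, p ≠ 0 → σ p = p → x (k + 2) p ∈ Y → ∀ u, σ u = u → x (k + 4) u ∈ Y := by
    intro p hp0 hp hpY u hu
    have ht : σ (u * p⁻¹) = u * p⁻¹ := by rw [map_mul, map_inv₀, hu, hp]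
    have h1 := h6 _ ht _ hpY
    have h2 := h.commL4 (k := k + 2) (even_add_two hk) hp ht
    have e1 : ∀ k : ZMod 12, k + 2 + 4 = k + 6 := by decide
    rw [e1, e24, mul_comm p, inv_mul_cancel_right₀ hp0] at h2
    have h3 : x (k + 6) (u * p⁻¹) * x (k + 2) p * (x (k + 6) (u * p⁻¹))⁻¹ * (x (k + 2) p)⁻¹ = x (k + 4) u := by
      have h4 : (⁅x (k + 2) p, x (k + 6) (u * p⁻¹)⁆)⁻¹ = (x (k + 4) u)⁻¹ := by rw [h2]
      rw [commutatorElement_inv, h.x_inv (ok_of_fix _ hu), commutatorElement_def] at h4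
      exact h4
    have h5 := mul_mem h1 (inv_mem hpY)
    rwa [h3] at h5
  obtain ⟨y, hy, hy1⟩ := Y.bot_or_exists_ne_one.resolve_left hne
  obtain ⟨p, q, hp, hq, rfl⟩ := nf y (hY hy)
  have all4 : ∀ u, σ u = u → x (k + 4) u ∈ Y := by
    by_cases hp0 : p = 0
    · subst hp0
      rw [h.x_zero, one_mul] at hy hy1
      have hq0 : q ≠ 0 := fun e => hy1 (by rw [e, h.x_zero])
      have h2 := up q hq0 hq hy 1 (map_one σ)
      exact down 1 one_ne_zero (map_one σ) h2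
    · -- conjugating by `x_{k+6}(u)` and comparing
      intro u hu
      have ht : σ (u * p⁻¹) = u * p⁻¹ := by rw [map_mul, map_inv₀, hu, hp]
      have h1 := h6 _ ht _ hy
      have h2 := h.commL4 (k := k + 2) (even_add_two hk) hp ht
      have h2' := h.commL2 (k := k + 4) (even_add_four hk) hq ht
      have e1 : ∀ k : ZMod 12, k + 2 + 4 = k + 6 := by decide
      have e2 : ∀ k : ZMod 12, k + 4 + 2 = k + 6 := by decide
      rw [e1, e24, mul_comm p, inv_mul_cancel_right₀ hp0] at h2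
      rw [e2] at h2'
      have h3 : x (k + 6) (u * p⁻¹) * x (k + 2) p * (x (k + 6) (u * p⁻¹))⁻¹ = x (k + 4) u * x (k + 2) p := by
        have h4 : (⁅x (k + 2) p, x (k + 6) (u * p⁻¹)⁆)⁻¹ = (x (k + 4) u)⁻¹ := by rw [h2]
        rw [commutatorElement_inv, h.x_inv (ok_of_fix _ hu)] at h4
        exact conj_eq_mod h4
      have h4 : x (k + 6) (u * p⁻¹) * x (k + 4) q * (x (k + 6) (u * p⁻¹))⁻¹ = x (k + 4) q := by
        have h5 : (⁅x (k + 4) q, x (k + 6) (u * p⁻¹)⁆)⁻¹ = 1 := by rw [h2', inv_one]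
        rw [commutatorElement_inv] at h5
        rw [conj_eq_mod h5, one_mul]
      have h5 : x (k + 6) (u * p⁻¹) * (x (k + 2) p * x (k + 4) q) * (x (k + 6) (u * p⁻¹))⁻¹ =
          x (k + 4) u * (x (k + 2) p * x (k + 4) q) := by
        calc x (k + 6) (u * p⁻¹) * (x (k + 2) p * x (k + 4) q) * (x (k + 6) (u * p⁻¹))⁻¹ =
            (x (k + 6) (u * p⁻¹) * x (k + 2) p * (x (k + 6) (u * p⁻¹))⁻¹) *
              (x (k + 6) (u * p⁻¹) * x (k + 4) q * (x (k + 6) (u * p⁻¹))⁻¹) := by group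
          _ = _ := by rw [h3, h4, mul_assoc]
      rw [h5] at h1
      have h6 := mul_mem h1 (inv_mem hy)
      rwa [mul_inv_cancel_right] at h6
  have all2 : ∀ u, σ u = u → x (k + 2) u ∈ Y := up 1 one_ne_zero (map_one σ) (all4 1 (map_one σ))
  refine le_antisymm hY (gen_le fun l hl a ha => ?_)
  rcases hl with rfl | hl
  · exact all2 a (ha (even_add_two hk))
  · rw [Set.mem_singleton_iff] at hl
    subst hl
    exact all4 a (ha (even_add_four hk))

/-! ### The short part -/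

/-- `x_k(t)` acts on `X_{k+1} X_{k+5}` modulo `X_{k+2} X_{k+3} X_{k+4}`. -/
theorem short_up {t : E} (ht : σ t = t) (a b : E) : ∃ m ∈ gen σ x (arc (k + 2) 3),
    x k t * (x (k + 1) a * x (k + 5) b) * (x k t)⁻¹ = x (k + 1) (a + t * b) * x (k + 5) b * m := by
  have hk1 : (k + 1).val % 2 = 1 := by
    have : ∀ k : ZMod 12, k.val % 2 = 0 → (k + 1).val % 2 = 1 := by decide
    exact this k hk
  have hk5 : (k + 5).val % 2 = 1 := by
    have : ∀ k : ZMod 12, k.val % 2 = 0 → (k + 5).val % 2 = 1 := by decide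
    exact this k hk
  have h1 := conj_eq_mod (h.commL1 hk ht a)
  have h2 := conj_eq_mod (h.commL5 hk ht b)
  rw [one_mul] at h1
  set m : Γ := x (k + 2) (t ^ 2 * nrm σ b) * x (k + 3) (t * shp σ b) * x (k + 4) (t * nrm σ b) with hm
  have hmM : m ∈ gen σ x (arc (k + 2) 3) := by
    have f1 : σ (t * nrm σ b) = t * nrm σ b := by rw [map_mul, ht, nrm_fix h.cube]
    have f2 : σ (t ^ 2 * nrm σ b) = t ^ 2 * nrm σ b := by rw [map_mul, map_pow, ht, nrm_fix h.cube]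
    have a2 : ∀ k : ZMod 12, k + 2 ∈ arc (k + 2) 3 := by
      intro k; change (k + 2 - (k + 2)).val < 3; revert k; decide
    have a3 : ∀ k : ZMod 12, k + 3 ∈ arc (k + 2) 3 := by
      intro k; change (k + 3 - (k + 2)).val < 3; revert k; decide
    have a4 : ∀ k : ZMod 12, k + 4 ∈ arc (k + 2) 3 := by
      intro k; change (k + 4 - (k + 2)).val < 3; revert k; decide
    have hk3 : (k + 3).val % 2 = 1 := by
      have : ∀ k : ZMod 12, k.val % 2 = 0 → (k + 3).val % 2 = 1 := by decide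
      exact this k hk
    exact mul_mem (mul_mem (x_mem_gen (a2 k) (ok_of_fix _ f2)) (x_mem_gen (a3 k) (ok_odd hk3 _)))
      (x_mem_gen (a4 k) (ok_of_fix _ f1))
  have hconj : (x (k + 5) b)⁻¹ * m * x (k + 5) b ∈ gen σ x (arc (k + 2) 3) := by
    have := h.conj_last (k := k + 2) (n := 3) (by norm_num) (b := b)
      (by
        have e : ∀ k : ZMod 12, k + 2 + ((3 : ℕ) : ZMod 12) = k + 5 := by decide
        rw [e]; exact ok_odd hk5 b) hmM
    have e : ∀ k : ZMod 12, k + 2 + ((3 : ℕ) : ZMod 12) = k + 5 := by decide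
    rw [e] at this
    rw [h.x_inv (ok_odd hk5 b)] at this ⊢
    exact this
  refine ⟨_, hconj, ?_⟩
  calc x k t * (x (k + 1) a * x (k + 5) b) * (x k t)⁻¹ =
      (x k t * x (k + 1) a * (x k t)⁻¹) * (x k t * x (k + 5) b * (x k t)⁻¹) := by group
    _ = x (k + 1) a * (x (k + 1) (t * b) * m * x (k + 5) b) := by rw [h1, h2, hm]; group
    _ = x (k + 1) a * x (k + 1) (t * b) * x (k + 5) b * ((x (k + 5) b)⁻¹ * m * x (k + 5) b) := by group
    _ = _ := by rw [← h.add (k + 1) a (t * b) (ok_odd hk1 _) (ok_odd hk1 _)]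

/-- the reflection acts on `X_{k+1} X_{k+5}` modulo `X_{k+2} X_{k+3} X_{k+4}`. -/
theorem short_nn (a b : E) : ∃ m ∈ gen σ x (arc (k + 2) 3),
    nn x k * (x (k + 1) a * x (k + 5) b) * (nn x k)⁻¹ = x (k + 1) b * x (k + 5) a * m := by
  have hk1 : (k + 1).val % 2 = 1 := by
    have : ∀ k : ZMod 12, k.val % 2 = 0 → (k + 1).val % 2 = 1 := by decide
    exact this k hk
  have hk5 : (k + 5).val % 2 = 1 := by
    have : ∀ k : ZMod 12, k.val % 2 = 0 → (k + 5).val % 2 = 1 := by decide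
    exact this k hk
  have e1 : ∀ k : ZMod 12, 2 * k + 6 - (k + 1) = k + 5 := by decide
  have e2 : ∀ k : ZMod 12, 2 * k + 6 - (k + 5) = k + 1 := by decide
  have h1 : nn x k * (x (k + 1) a * x (k + 5) b) * (nn x k)⁻¹ = x (k + 5) a * x (k + 1) b := by
    calc nn x k * (x (k + 1) a * x (k + 5) b) * (nn x k)⁻¹ =
      (nn x k * x (k + 1) a * (nn x k)⁻¹) * (nn x k * x (k + 5) b * (nn x k)⁻¹) := by group
      _ = _ := by rw [h.refl k _ (ok_odd hk1 _), h.refl k _ (ok_odd hk5 _), e1, e2]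
  have h2 := h.comm_mem (k + 1) 4 (by norm_num) (by norm_num) (ok_odd hk1 b) (b := a)
    (by
      have e : ∀ k : ZMod 12, k + 1 + ((4 : ℕ) : ZMod 12) = k + 5 := by decide
      rw [e]; exact ok_odd hk5 a)
  have e : ∀ k : ZMod 12, k + 1 + ((4 : ℕ) : ZMod 12) = k + 5 := by decide
  have e' : ∀ k : ZMod 12, k + 1 + 1 = k + 2 := by decide
  rw [e, e'] at h2
  refine ⟨⁅(x (k + 5) a)⁻¹, (x (k + 1) b)⁻¹⁆, ?_, ?_⟩
  · rw [h.x_inv (ok_odd hk5 a), h.x_inv (ok_odd hk1 b), ← commutatorElement_inv]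
    exact inv_mem h2
  · rw [h1, commutatorElement_def]
    group

omit [Field E] hk h in
theorem mem_arc_three {k l : ZMod 12} (hl : l ∈ arc (k + 2) 3) : l = k + 2 ∨ l = k + 3 ∨ l = k + 4 := by
  have : ∀ k l : ZMod 12, (l - (k + 2)).val < 3 → l = k + 2 ∨ l = k + 3 ∨ l = k + 4 := by decide
  exact this k l hl

omit [Field E] hk h in
theorem arc_three (k : ZMod 12) : k + 2 ∈ arc (k + 2) 3 ∧ k + 3 ∈ arc (k + 2) 3 ∧ k + 4 ∈ arc (k + 2) 3 := by
  have : ∀ k : ZMod 12, (k + 2 - (k + 2)).val < 3 ∧ (k + 3 - (k + 2)).val < 3 ∧ (k + 4 - (k + 2)).val < 3 := by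
    decide
  exact this k

theorem M_conj_x {t : E} (ht : σ t = t) {m : Γ} (hm : m ∈ gen σ x (arc (k + 2) 3)) :
    x k t * m * (x k t)⁻¹ ∈ gen σ x (arc (k + 2) 3) := by
  obtain ⟨m2, m3, m4⟩ := arc_three k
  refine conj_gen (fun l hl a ha => ?_) hm
  rcases mem_arc_three hl with rfl | rfl | rfl
  · rw [conj_eq_mod (h.commL2 hk ht (ha (even_add_two hk))), one_mul]
    exact x_mem_gen m2 ha
  · rw [conj_eq_mod (h.commL3 hk ht a), one_mul]
    exact x_mem_gen m3 ha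
  · have ha' := ha (even_add_four hk)
    rw [conj_eq_mod (h.commL4 hk ht ha')]
    exact mul_mem (x_mem_gen m2 (ok_of_fix _ (by rw [map_mul, ht, ha']))) (x_mem_gen m4 ha)

omit hk in
theorem M_conj_nn {m : Γ} (hm : m ∈ gen σ x (arc (k + 2) 3)) :
    nn x k * m * (nn x k)⁻¹ ∈ gen σ x (arc (k + 2) 3) := by
  refine h.nn_conj_gen k (fun l hl => ?_) hm
  have : ∀ k l : ZMod 12, (l - (k + 2)).val < 3 → (2 * k + 6 - l - (k + 2)).val < 3 := by decide
  exact this k l hl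

/-- `M = X_{k+2} X_{k+3} X_{k+4}` is normalised by `L_k`. -/
theorem M_act [Finite E] {K : Type*} [Field K] [CharP K 2] {ι : K →+* E} (P : Par σ k ι)
    {θ : SpecialLinearGroup (Fin 2) K →* Γ} (h1 : ∀ a, θ (U a) = x k (ι a)) (h3 : θ (Tm K) = nn x k)
    (A : SpecialLinearGroup (Fin 2) K) : ∀ m ∈ gen σ x (arc (k + 2) 3), θ A * m * (θ A)⁻¹ ∈ gen σ x (arc (k + 2) 3) := by
  refine sl_induction (Q := fun A => ∀ m ∈ gen σ x (arc (k + 2) 3), θ A * m * (θ A)⁻¹ ∈ gen σ x (arc (k + 2) 3))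
    (fun a m hm => ?_) (fun m hm => ?_) (fun A B hA hB m hm => ?_) A
  · rw [h1]
    exact h.M_conj_x hk (P.ok a hk) hm
  · rw [h3]
    exact h.M_conj_nn hm
  · rw [map_mul]
    have e : θ A * θ B * m * (θ A * θ B)⁻¹ = θ A * (θ B * m * (θ B)⁻¹) * (θ A)⁻¹ := by group
    rw [e]
    exact hA _ (hB _ hm)

/-- **`L_k` acts on `X_{k+1} X_{k+5}` modulo `X_{k+2} X_{k+3} X_{k+4}` as on the natural module.** -/
theorem short_act [Finite E] {K : Type*} [Field K] [CharP K 2] {ι : K →+* E} (P : Par σ k ι)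
    {θ : SpecialLinearGroup (Fin 2) K →* Γ} (h1 : ∀ a, θ (U a) = x k (ι a)) (h3 : θ (Tm K) = nn x k)
    (A : SpecialLinearGroup (Fin 2) K) (p q : E) : ∃ m ∈ gen σ x (arc (k + 2) 3),
    θ A * (x (k + 1) p * x (k + 5) q) * (θ A)⁻¹ =
      x (k + 1) (ι (A.1 0 0) * p + ι (A.1 0 1) * q) * x (k + 5) (ι (A.1 1 0) * p + ι (A.1 1 1) * q) * m := by
  refine sl_induction (Q := fun A => ∀ p q : E, ∃ m ∈ gen σ x (arc (k + 2) 3),
    θ A * (x (k + 1) p * x (k + 5) q) * (θ A)⁻¹ =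
      x (k + 1) (ι (A.1 0 0) * p + ι (A.1 0 1) * q) * x (k + 5) (ι (A.1 1 0) * p + ι (A.1 1 1) * q) * m)
    (fun a p q => ?_) (fun p q => ?_) (fun A B hA hB p q => ?_) A p q
  · obtain ⟨m, hm, e⟩ := h.short_up hk (P.ok a hk) p q
    refine ⟨m, hm, ?_⟩
    have e00 : (U a).1 0 0 = 1 := rfl
    have e01 : (U a).1 0 1 = a := rfl
    have e10 : (U a).1 1 0 = 0 := rfl
    have e11 : (U a).1 1 1 = 1 := rfl
    rw [h1, e, e00, e01, e10, e11, map_one, map_zero, one_mul, one_mul, zero_mul, zero_add]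
  · obtain ⟨m, hm, e⟩ := h.short_nn hk p q
    refine ⟨m, hm, ?_⟩
    have e00 : (Tm K).1 0 0 = 0 := rfl
    have e01 : (Tm K).1 0 1 = 1 := rfl
    have e10 : (Tm K).1 1 0 = 1 := rfl
    have e11 : (Tm K).1 1 1 = 0 := rfl
    rw [h3, e, e00, e01, e10, e11, map_one, map_zero, one_mul, one_mul, zero_mul, zero_mul, zero_add, add_zero]
  · obtain ⟨m, hm, e⟩ := hB p q
    obtain ⟨m', hm', e'⟩ := hA (ι (B.1 0 0) * p + ι (B.1 0 1) * q) (ι (B.1 1 0) * p + ι (B.1 1 1) * q)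
    refine ⟨m' * (θ A * m * (θ A)⁻¹), mul_mem hm' (h.M_act hk P h1 h3 A m hm), ?_⟩
    have e1 : (A * B).1 = A.1 * B.1 := rfl
    rw [map_mul, e1, Matrix.mul_apply, Matrix.mul_apply, Matrix.mul_apply, Matrix.mul_apply, Fin.sum_univ_two,
      Fin.sum_univ_two, Fin.sum_univ_two, Fin.sum_univ_two]
    calc θ A * θ B * (x (k + 1) p * x (k + 5) q) * (θ A * θ B)⁻¹ =
        θ A * (θ B * (x (k + 1) p * x (k + 5) q) * (θ B)⁻¹) * (θ A)⁻¹ := by group
      _ = θ A * (x (k + 1) (ι (B.1 0 0) * p + ι (B.1 0 1) * q) *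
          x (k + 5) (ι (B.1 1 0) * p + ι (B.1 1 1) * q)) * (θ A)⁻¹ * (θ A * m * (θ A)⁻¹) := by rw [e]; group
      _ = _ := by
        have f1 : ι (A.1 0 0) * (ι (B.1 0 0) * p + ι (B.1 0 1) * q) + ι (A.1 0 1) * (ι (B.1 1 0) * p + ι (B.1 1 1) * q) =
            ι (A.1 0 0 * B.1 0 0 + A.1 0 1 * B.1 1 0) * p + ι (A.1 0 0 * B.1 0 1 + A.1 0 1 * B.1 1 1) * q := by
          simp only [map_add, map_mul]; ring
        have f2 : ι (A.1 1 0) * (ι (B.1 0 0) * p + ι (B.1 0 1) * q) + ι (A.1 1 1) * (ι (B.1 1 0) * p + ι (B.1 1 1) * q) =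
            ι (A.1 1 0 * B.1 0 0 + A.1 1 1 * B.1 1 0) * p + ι (A.1 1 0 * B.1 0 1 + A.1 1 1 * B.1 1 1) * q := by
          simp only [map_add, map_mul]; ring
        rw [e', f1, f2]
        group

end even



end HexTwo

end Cfsg.Agent.StdRank2.Hex

end

-- merged: Cfsg.Agent.StdRank2.HexModS
section

/-!
# The module `Q_1/Z` of a short rank one subgroup of a hexagonal root system in characteristic two (S1778)

`k` odd (short), `L = ⟨X_k, X_{k+6}⟩ ≅ SL₂(E)`, `Q = X_{k+1} ⋯ X_{k+5}`, `Z = X_{k+3}`: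
* `Q4 k g a b d e` : `g ∈ x_{k+1}(a) x_{k+2}(b) x_{k+4}(d) x_{k+5}(e) Z`; additive (`Q4.mul`), action of `x_k(s)`
  (`Q4.up`), of the reflection (`Q4.nn`) and of the torus;
* `Q_irred` : a subgroup `Z < Y ≤ Q` normalised by `X_k`, the reflection and the torus is `Q`, unless `E = F` has
  two elements (`G₂(2)`).
-/

set_option autoImplicit false

namespace Cfsg.Agent.StdRank2.Hex

open Cfsg.Agent.SplitTwo Cfsg.Agent.SuzukiRankOne.SLTwoRel
open scoped commutatorElement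

section Idx

theorem oe1 : ∀ k : ZMod 12, k.val % 2 = 1 → (k + 1).val % 2 = 0 := by decide
theorem oe2 : ∀ k : ZMod 12, k.val % 2 = 1 → (k + 2).val % 2 = 1 := by decide
theorem oe3 : ∀ k : ZMod 12, k.val % 2 = 1 → (k + 3).val % 2 = 0 := by decide
theorem oe4 : ∀ k : ZMod 12, k.val % 2 = 1 → (k + 4).val % 2 = 1 := by decide
theorem oe5 : ∀ k : ZMod 12, k.val % 2 = 1 → (k + 5).val % 2 = 0 := by decide
theorem ia12 : ∀ k : ZMod 12, k + 1 + 1 = k + 2 := by decide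
theorem ia13 : ∀ k : ZMod 12, k + 1 + 2 = k + 3 := by decide
theorem ia14 : ∀ k : ZMod 12, k + 1 + 3 = k + 4 := by decide
theorem ia15 : ∀ k : ZMod 12, k + 1 + 4 = k + 5 := by decide
theorem ia23 : ∀ k : ZMod 12, k + 2 + 1 = k + 3 := by decide
theorem ia24 : ∀ k : ZMod 12, k + 2 + 2 = k + 4 := by decide
theorem ia25 : ∀ k : ZMod 12, k + 2 + 3 = k + 5 := by decide
theorem ia34 : ∀ k : ZMod 12, k + 3 + 1 = k + 4 := by decide
theorem ia35 : ∀ k : ZMod 12, k + 3 + 2 = k + 5 := by decide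
theorem ia45 : ∀ k : ZMod 12, k + 4 + 1 = k + 5 := by decide
theorem ir1 : ∀ k : ZMod 12, 2 * k + 6 - (k + 1) = k + 5 := by decide
theorem ir2 : ∀ k : ZMod 12, 2 * k + 6 - (k + 2) = k + 4 := by decide
theorem ir3 : ∀ k : ZMod 12, 2 * k + 6 - (k + 3) = k + 3 := by decide
theorem ir4 : ∀ k : ZMod 12, 2 * k + 6 - (k + 4) = k + 2 := by decide
theorem ir5 : ∀ k : ZMod 12, 2 * k + 6 - (k + 5) = k + 1 := by decide

end Idx

variable {E : Type*} [Field E] {σ : E ≃+* E} {Γ : Type*} [Group Γ] {x : ZMod 12 → E → Γ}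

/-- `g ∈ x_{k+1}(a) x_{k+2}(b) x_{k+4}(d) x_{k+5}(e) Z`. -/
def Q4 (σ : E ≃+* E) (x : ZMod 12 → E → Γ) (k : ZMod 12) (g : Γ) (a b d e : E) : Prop :=
  σ a = a ∧ σ e = e ∧ ∃ z, σ z = z ∧ g = x (k + 1) a * x (k + 2) b * x (k + 4) d * x (k + 5) e * x (k + 3) z

theorem comm_of_one {a b : Γ} (e : ⁅a, b⁆ = 1) : a * b = b * a := commutatorElement_eq_one_iff_mul_comm.1 e

namespace HexTwo

variable (h : HexTwo σ x) {k : ZMod 12} (hk : k.val % 2 = 1)

include h hk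

theorem cc12 {a : E} (ha : σ a = a) (b : E) : x (k + 1) a * x (k + 2) b = x (k + 2) b * x (k + 1) a := by
  have := h.commL1 (oe1 k hk) ha b
  rw [ia12] at this
  exact comm_of_one this

theorem cc13 {a c : E} (ha : σ a = a) (hc : σ c = c) : x (k + 1) a * x (k + 3) c = x (k + 3) c * x (k + 1) a := by
  have := h.commL2 (oe1 k hk) ha hc
  rw [ia13] at this
  exact comm_of_one this

theorem cc14 {a : E} (ha : σ a = a) (d : E) : x (k + 1) a * x (k + 4) d = x (k + 4) d * x (k + 1) a := by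
  have := h.commL3 (oe1 k hk) ha d
  rw [ia14] at this
  exact comm_of_one this

theorem cc23 (b : E) {c : E} (hc : σ c = c) : x (k + 2) b * x (k + 3) c = x (k + 3) c * x (k + 2) b := by
  have := h.commS1 (oe2 k hk) b hc
  rw [ia23] at this
  exact comm_of_one this

theorem cc25 (b : E) {e : E} (he : σ e = e) : x (k + 2) b * x (k + 5) e = x (k + 5) e * x (k + 2) b := by
  have := h.commS3 (oe2 k hk) b he
  rw [ia25] at this
  exact comm_of_one this

theorem cc34 {c : E} (hc : σ c = c) (d : E) : x (k + 3) c * x (k + 4) d = x (k + 4) d * x (k + 3) c := by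
  have := h.commL1 (oe3 k hk) hc d
  rw [ia34] at this
  exact comm_of_one this

theorem cc35 {c e : E} (hc : σ c = c) (he : σ e = e) : x (k + 3) c * x (k + 5) e = x (k + 5) e * x (k + 3) c := by
  have := h.commL2 (oe3 k hk) hc he
  rw [ia35] at this
  exact comm_of_one this

theorem cc45 (d : E) {e : E} (he : σ e = e) : x (k + 4) d * x (k + 5) e = x (k + 5) e * x (k + 4) d := by
  have := h.commS1 (oe4 k hk) d he
  rw [ia45] at this
  exact comm_of_one this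

/-- `x_{k+5}(e) x_{k+1}(a) = x_{k+1}(a) x_{k+5}(e) x_{k+3}(a e)` -/
theorem cc51 {a e : E} (ha : σ a = a) (he : σ e = e) :
    x (k + 5) e * x (k + 1) a = x (k + 1) a * x (k + 5) e * x (k + 3) (a * e) := by
  have hae : σ (a * e) = a * e := by rw [map_mul, ha, he]
  have h1 := h.commL4 (oe1 k hk) ha he
  rw [ia15, ia13] at h1
  have h2 := conj_eq_mod h1
  rw [mul_inv_eq_iff_eq_mul] at h2
  have h3 := h.x_sq (ok_of_fix (k + 3) hae)
  have h4 := h.cc13 hk ha hae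
  have h5 := h.cc35 hk hae he
  calc x (k + 5) e * x (k + 1) a = (x (k + 3) (a * e) * x (k + 3) (a * e)) * (x (k + 5) e * x (k + 1) a) := by
        rw [h3, one_mul]
    _ = x (k + 3) (a * e) * (x (k + 3) (a * e) * x (k + 5) e * x (k + 1) a) := by group
    _ = x (k + 3) (a * e) * (x (k + 1) a * x (k + 5) e) := by rw [h2]
    _ = x (k + 3) (a * e) * x (k + 1) a * x (k + 5) e := by group
    _ = x (k + 1) a * (x (k + 3) (a * e) * x (k + 5) e) := by rw [← h4]; group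
    _ = _ := by rw [h5]; group

/-- `x_{k+4}(d) x_{k+2}(b) = x_{k+2}(b) x_{k+4}(d) x_{k+3}(tr(b d))` -/
theorem cc42 (b d : E) :
    x (k + 4) d * x (k + 2) b = x (k + 2) b * x (k + 4) d * x (k + 3) (trc σ b d) := by
  have hae : σ (trc σ b d) = trc σ b d := trc_fix h.cube b d
  have h1 := h.commS2 (oe2 k hk) b d
  rw [ia24, ia23] at h1
  have h2 := conj_eq_mod h1
  rw [mul_inv_eq_iff_eq_mul] at h2
  have h3 := h.x_sq (ok_of_fix (k + 3) hae)
  have h4 := h.cc23 hk b hae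
  have h5 := h.cc34 hk hae d
  calc x (k + 4) d * x (k + 2) b = (x (k + 3) (trc σ b d) * x (k + 3) (trc σ b d)) * (x (k + 4) d * x (k + 2) b) := by
        rw [h3, one_mul]
    _ = x (k + 3) (trc σ b d) * (x (k + 3) (trc σ b d) * x (k + 4) d * x (k + 2) b) := by group
    _ = x (k + 3) (trc σ b d) * (x (k + 2) b * x (k + 4) d) := by rw [h2]
    _ = x (k + 3) (trc σ b d) * x (k + 2) b * x (k + 4) d := by group
    _ = x (k + 2) b * (x (k + 3) (trc σ b d) * x (k + 4) d) := by rw [← h4]; group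
    _ = _ := by rw [h5]; group

/-- **Additivity of the coordinates modulo `Z`.** -/
theorem Q4_mul {g g' : Γ} {a b d e a' b' d' e' : E} (hg : Q4 σ x k g a b d e) (hg' : Q4 σ x k g' a' b' d' e') :
    Q4 σ x k (g * g') (a + a') (b + b') (d + d') (e + e') := by
  obtain ⟨ha, he, z, hz, rfl⟩ := hg
  obtain ⟨ha', he', z', hz', rfl⟩ := hg'
  have hae : σ (a' * e) = a' * e := by rw [map_mul, ha', he]
  have hbd : σ (trc σ b' d) = trc σ b' d := trc_fix h.cube b' d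
  set w : E := z + trc σ b' d + a' * e with hw
  have hww : σ (w + z') = w + z' := by
    rw [hw]; simp only [map_add, hz, hbd, hae, hz']
  refine ⟨by rw [map_add, ha, ha'], by rw [map_add, he, he'], w + z', hww, ?_⟩
  have hwf : σ w = w := by rw [hw]; simp only [map_add, hz, hbd, hae]
  have k1 := h.cc13 hk ha' hz
  have k2 := h.cc23 hk b' hz
  have k3 := h.cc34 hk hz d'
  have k4 := h.cc35 hk hz he'
  have l51 := h.cc51 hk ha' he
  have l42 := h.cc42 hk b' d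
  have l41 := h.cc14 hk ha' d
  have l21 := h.cc12 hk ha' b
  have l52 := h.cc25 hk b' he
  have l54 := h.cc45 hk d' he
  have m1 := h.cc23 hk b' hae
  have m2 := h.cc34 hk hae d'
  have m3 := h.cc35 hk hae he'
  have n1 := h.cc34 hk hbd d'
  have n2 := h.cc35 hk hbd he'
  have n3 := h.cc35 hk hbd he
  have o3 : ∀ {u v : E}, σ u = u → σ v = v → x (k + 3) u * x (k + 3) v = x (k + 3) (u + v) := fun hu hv =>
    (h.add _ _ _ (ok_of_fix _ hu) (ok_of_fix _ hv)).symm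
  -- move the central elements to the right and sort
  calc x (k + 1) a * x (k + 2) b * x (k + 4) d * x (k + 5) e * x (k + 3) z *
        (x (k + 1) a' * x (k + 2) b' * x (k + 4) d' * x (k + 5) e' * x (k + 3) z') =
      x (k + 1) a * x (k + 2) b * x (k + 4) d * x (k + 5) e * (x (k + 3) z * x (k + 1) a') * x (k + 2) b' *
        x (k + 4) d' * x (k + 5) e' * x (k + 3) z' := by group
    _ = x (k + 1) a * x (k + 2) b * x (k + 4) d * x (k + 5) e * x (k + 1) a' * (x (k + 3) z * x (k + 2) b') *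
        x (k + 4) d' * x (k + 5) e' * x (k + 3) z' := by rw [← k1]; group
    _ = x (k + 1) a * x (k + 2) b * x (k + 4) d * x (k + 5) e * x (k + 1) a' * x (k + 2) b' *
        (x (k + 3) z * x (k + 4) d') * x (k + 5) e' * x (k + 3) z' := by rw [← k2]; group
    _ = x (k + 1) a * x (k + 2) b * x (k + 4) d * x (k + 5) e * x (k + 1) a' * x (k + 2) b' *
        x (k + 4) d' * (x (k + 3) z * x (k + 5) e') * x (k + 3) z' := by rw [k3]; group
    _ = x (k + 1) a * x (k + 2) b * x (k + 4) d * (x (k + 5) e * x (k + 1) a') * x (k + 2) b' *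
        x (k + 4) d' * x (k + 5) e' * (x (k + 3) z * x (k + 3) z') := by rw [k4]; group
    _ = x (k + 1) a * x (k + 2) b * (x (k + 4) d * x (k + 1) a') * x (k + 5) e * (x (k + 3) (a' * e) * x (k + 2) b') *
        x (k + 4) d' * x (k + 5) e' * (x (k + 3) z * x (k + 3) z') := by rw [l51]; group
    _ = x (k + 1) a * (x (k + 2) b * x (k + 1) a') * x (k + 4) d * (x (k + 5) e * x (k + 2) b') *
        (x (k + 3) (a' * e) * x (k + 4) d') * x (k + 5) e' * (x (k + 3) z * x (k + 3) z') := by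
        rw [← l41, ← m1]; group
    _ = x (k + 1) a * (x (k + 1) a' * x (k + 2) b) * (x (k + 4) d * x (k + 2) b') * (x (k + 5) e *
        x (k + 4) d') * (x (k + 3) (a' * e) * x (k + 5) e') * (x (k + 3) z * x (k + 3) z') := by
        rw [← l21, ← l52, m2]; group
    _ = (x (k + 1) a * x (k + 1) a') * x (k + 2) b * (x (k + 2) b' * x (k + 4) d * x (k + 3) (trc σ b' d)) *
        (x (k + 4) d' * x (k + 5) e) * (x (k + 5) e' * x (k + 3) (a' * e)) * (x (k + 3) z * x (k + 3) z') := by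
        rw [l42, ← l54, m3]; group
    _ = (x (k + 1) a * x (k + 1) a') * (x (k + 2) b * x (k + 2) b') * x (k + 4) d *
        (x (k + 3) (trc σ b' d) * x (k + 4) d') * x (k + 5) e * (x (k + 5) e' * x (k + 3) (a' * e)) *
          (x (k + 3) z * x (k + 3) z') := by group
    _ = (x (k + 1) a * x (k + 1) a') * (x (k + 2) b * x (k + 2) b') * (x (k + 4) d * x (k + 4) d') *
        (x (k + 3) (trc σ b' d) * x (k + 5) e) * (x (k + 5) e' * x (k + 3) (a' * e)) *
          (x (k + 3) z * x (k + 3) z') := by rw [n1]; group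
    _ = (x (k + 1) a * x (k + 1) a') * (x (k + 2) b * x (k + 2) b') * (x (k + 4) d * x (k + 4) d') * x (k + 5) e *
        (x (k + 3) (trc σ b' d) * x (k + 5) e') * x (k + 3) (a' * e) *
          (x (k + 3) z * x (k + 3) z') := by rw [n3]; group
    _ = (x (k + 1) a * x (k + 1) a') * (x (k + 2) b * x (k + 2) b') * (x (k + 4) d * x (k + 4) d') * (x (k + 5) e *
        x (k + 5) e') * (x (k + 3) (trc σ b' d) * x (k + 3) (a' * e) * x (k + 3) z * x (k + 3) z') := by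
        rw [n2]; group
    _ = _ := by
      rw [← h.add (k + 1) a a' (ok_of_fix _ ha) (ok_of_fix _ ha'), ← h.add (k + 2) b b' (ok_odd (oe2 k hk) _)
        (ok_odd (oe2 k hk) _), ← h.add (k + 4) d d' (ok_odd (oe4 k hk) _) (ok_odd (oe4 k hk) _),
        ← h.add (k + 5) e e' (ok_of_fix _ he) (ok_of_fix _ he'), o3 hbd hae, o3 (by rw [map_add, hbd, hae]) hz,
        o3 (by simp only [map_add, hbd, hae, hz]) hz']
      congr 2
      rw [hw]
      ring

omit h hk in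
theorem Q4_congr {g : Γ} {a b d e a' b' d' e' : E} (hg : Q4 σ x k g a b d e) (h1 : a = a') (h2 : b = b')
    (h3 : d = d') (h4 : e = e') : Q4 σ x k g a' b' d' e' := by
  subst h1 h2 h3 h4
  exact hg

theorem Q4_1 {a : E} (ha : σ a = a) : Q4 σ x k (x (k + 1) a) a 0 0 0 :=
  ⟨ha, map_zero σ, 0, map_zero σ, by rw [h.x_zero, h.x_zero, h.x_zero, h.x_zero]; group⟩

theorem Q4_2 (b : E) : Q4 σ x k (x (k + 2) b) 0 b 0 0 :=
  ⟨map_zero σ, map_zero σ, 0, map_zero σ, by rw [h.x_zero, h.x_zero, h.x_zero, h.x_zero]; group⟩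

theorem Q4_3 {c : E} (hc : σ c = c) : Q4 σ x k (x (k + 3) c) 0 0 0 0 :=
  ⟨map_zero σ, map_zero σ, c, hc, by rw [h.x_zero, h.x_zero, h.x_zero, h.x_zero]; group⟩

theorem Q4_4 (d : E) : Q4 σ x k (x (k + 4) d) 0 0 d 0 :=
  ⟨map_zero σ, map_zero σ, 0, map_zero σ, by rw [h.x_zero, h.x_zero, h.x_zero, h.x_zero]; group⟩

theorem Q4_5 {e : E} (he : σ e = e) : Q4 σ x k (x (k + 5) e) 0 0 0 e :=
  ⟨map_zero σ, he, 0, map_zero σ, by rw [h.x_zero, h.x_zero, h.x_zero, h.x_zero]; group⟩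

/-- conjugation of a normal form -/
theorem Q4_conj {y : Γ} {g : Γ} {a b d e : E} (hg : Q4 σ x k g a b d e) {a1 b1 d1 e1 a2 b2 d2 e2 a4 b4 d4 e4 a5 b5 d5 e5 : E}
    (c1 : Q4 σ x k (y * x (k + 1) a * y⁻¹) a1 b1 d1 e1) (c2 : Q4 σ x k (y * x (k + 2) b * y⁻¹) a2 b2 d2 e2)
    (c4 : Q4 σ x k (y * x (k + 4) d * y⁻¹) a4 b4 d4 e4) (c5 : Q4 σ x k (y * x (k + 5) e * y⁻¹) a5 b5 d5 e5)
    (c3 : ∀ z, σ z = z → Q4 σ x k (y * x (k + 3) z * y⁻¹) 0 0 0 0) :
    Q4 σ x k (y * g * y⁻¹) (a1 + a2 + a4 + a5) (b1 + b2 + b4 + b5) (d1 + d2 + d4 + d5) (e1 + e2 + e4 + e5) := by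
  obtain ⟨-, -, z, hz, rfl⟩ := hg
  have e0 : y * (x (k + 1) a * x (k + 2) b * x (k + 4) d * x (k + 5) e * x (k + 3) z) * y⁻¹ =
      (y * x (k + 1) a * y⁻¹) * (y * x (k + 2) b * y⁻¹) * (y * x (k + 4) d * y⁻¹) * (y * x (k + 5) e * y⁻¹) *
        (y * x (k + 3) z * y⁻¹) := by group
  rw [e0]
  refine Q4_congr (h.Q4_mul hk (h.Q4_mul hk (h.Q4_mul hk (h.Q4_mul hk c1 c2) c4) c5) (c3 z hz)) ?_ ?_ ?_ ?_ <;>
    rw [add_zero]

/-- **Action of `x_k(s)` on `Q/Z`.** -/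
theorem Q4_up (s : E) {g : Γ} {a b d e : E} (hg : Q4 σ x k g a b d e) :
    Q4 σ x k (x k s * g * (x k s)⁻¹) (a + trc σ s b + trc σ (shp σ s) d + e * nrm σ s)
      (b + crs σ s d + e * shp σ s) (d + e * s) e := by
  obtain ⟨ha, he, -⟩ := id hg
  have t1 := trc_fix h.cube s b
  have t2 := trc_fix h.cube (shp σ s) d
  have t3 := trc_fix h.cube s (shp σ d)
  have f1 : σ (e * nrm σ s) = e * nrm σ s := by rw [map_mul, he, nrm_fix h.cube]
  have f2 : σ (e ^ 2 * nrm σ s) = e ^ 2 * nrm σ s := by rw [map_mul, map_pow, he, nrm_fix h.cube]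
  have c1 : Q4 σ x k (x k s * x (k + 1) a * (x k s)⁻¹) a 0 0 0 := by
    rw [conj_eq_mod (h.commS1 hk s ha), one_mul]
    exact h.Q4_1 hk ha
  have c2 : Q4 σ x k (x k s * x (k + 2) b * (x k s)⁻¹) (trc σ s b) b 0 0 := by
    rw [conj_eq_mod (h.commS2 hk s b)]
    refine Q4_congr (h.Q4_mul hk (h.Q4_1 hk t1) (h.Q4_2 hk b)) ?_ ?_ ?_ ?_ <;> ring
  have c4 : Q4 σ x k (x k s * x (k + 4) d * (x k s)⁻¹) (trc σ (shp σ s) d) (crs σ s d) d 0 := by
    rw [conj_eq_mod (h.commS4 hk s d)]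
    refine Q4_congr (h.Q4_mul hk (h.Q4_mul hk (h.Q4_mul hk (h.Q4_1 hk t2) (h.Q4_2 hk (crs σ s d)))
      (h.Q4_3 hk t3)) (h.Q4_4 hk d)) ?_ ?_ ?_ ?_ <;> ring
  have c5 : Q4 σ x k (x k s * x (k + 5) e * (x k s)⁻¹) (e * nrm σ s) (e * shp σ s) (e * s) e := by
    rw [conj_eq_mod (h.commS5 hk s he)]
    refine Q4_congr (h.Q4_mul hk (h.Q4_mul hk (h.Q4_mul hk (h.Q4_mul hk (h.Q4_1 hk f1) (h.Q4_2 hk _))
      (h.Q4_3 hk f2)) (h.Q4_4 hk _)) (h.Q4_5 hk he)) ?_ ?_ ?_ ?_ <;> ring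
  have c3 : ∀ z, σ z = z → Q4 σ x k (x k s * x (k + 3) z * (x k s)⁻¹) 0 0 0 0 := by
    intro z hz
    rw [conj_eq_mod (h.commS3 hk s hz), one_mul]
    exact h.Q4_3 hk hz
  refine Q4_congr (h.Q4_conj hk hg c1 c2 c4 c5 c3) ?_ ?_ ?_ ?_ <;> ring

/-- **Action of the reflection on `Q/Z`.** -/
theorem Q4_nn {g : Γ} {a b d e : E} (hg : Q4 σ x k g a b d e) : Q4 σ x k (nn x k * g * (nn x k)⁻¹) e d b a := by
  obtain ⟨ha, he, -⟩ := id hg
  have c1 : Q4 σ x k (nn x k * x (k + 1) a * (nn x k)⁻¹) 0 0 0 a := by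
    rw [h.refl k _ (ok_of_fix _ ha), ir1]
    exact h.Q4_5 hk ha
  have c2 : Q4 σ x k (nn x k * x (k + 2) b * (nn x k)⁻¹) 0 0 b 0 := by
    rw [h.refl k _ (ok_odd (oe2 k hk) _), ir2]
    exact h.Q4_4 hk b
  have c4 : Q4 σ x k (nn x k * x (k + 4) d * (nn x k)⁻¹) 0 d 0 0 := by
    rw [h.refl k _ (ok_odd (oe4 k hk) _), ir4]
    exact h.Q4_2 hk d
  have c5 : Q4 σ x k (nn x k * x (k + 5) e * (nn x k)⁻¹) e 0 0 0 := by
    rw [h.refl k _ (ok_of_fix _ he), ir5]
    exact h.Q4_1 hk he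
  have c3 : ∀ z, σ z = z → Q4 σ x k (nn x k * x (k + 3) z * (nn x k)⁻¹) 0 0 0 0 := by
    intro z hz
    rw [h.refl k _ (ok_of_fix _ hz), ir3]
    exact h.Q4_3 hk hz
  refine Q4_congr (h.Q4_conj hk hg c1 c2 c4 c5 c3) ?_ ?_ ?_ ?_ <;> ring

/-- every element of `Q` has coordinates -/
theorem exists_Q4 {g : Γ} (hg : g ∈ gen σ x (arc (k + 1) 5)) : ∃ a b d e, Q4 σ x k g a b d e := by
  have key : gen σ x (arc (k + 1) 5) ≤
      { carrier := {g | ∃ a b d e, Q4 σ x k g a b d e}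
        one_mem' := ⟨0, 0, 0, 0, by have := h.Q4_3 hk (map_zero σ); rwa [h.x_zero] at this⟩
        mul_mem' := by
          rintro g g' ⟨a, b, d, e, hg⟩ ⟨a', b', d', e', hg'⟩
          exact ⟨_, _, _, _, h.Q4_mul hk hg hg'⟩
        inv_mem' := by
          rintro g ⟨a, b, d, e, hg⟩
          obtain ⟨ha, he, z, hz, rfl⟩ := hg
          refine ⟨a, b, d, e, ?_⟩
          rw [mul_inv_rev, mul_inv_rev, mul_inv_rev, mul_inv_rev, h.x_inv (ok_of_fix _ ha), h.x_inv (ok_of_fix _ he),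
            h.x_inv (ok_of_fix _ hz), h.x_inv (ok_odd (oe2 k hk) _), h.x_inv (ok_odd (oe4 k hk) _)]
          refine Q4_congr (h.Q4_mul hk (h.Q4_3 hk hz) (h.Q4_mul hk (h.Q4_5 hk he) (h.Q4_mul hk (h.Q4_4 hk d)
            (h.Q4_mul hk (h.Q4_2 hk b) (h.Q4_1 hk ha))))) ?_ ?_ ?_ ?_ <;> ring : Subgroup Γ } := by
    refine gen_le fun l hl c hc => ?_
    have : ∀ k l : ZMod 12, (l - (k + 1)).val < 5 → l = k + 1 ∨ l = k + 2 ∨ l = k + 3 ∨ l = k + 4 ∨ l = k + 5 := by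
      decide
    rcases this k l hl with rfl | rfl | rfl | rfl | rfl
    · exact ⟨_, _, _, _, h.Q4_1 hk (hc (oe1 k hk))⟩
    · exact ⟨_, _, _, _, h.Q4_2 hk c⟩
    · exact ⟨_, _, _, _, h.Q4_3 hk (hc (oe3 k hk))⟩
    · exact ⟨_, _, _, _, h.Q4_4 hk c⟩
    · exact ⟨_, _, _, _, h.Q4_5 hk (hc (oe5 k hk))⟩
  exact key hg

omit hk in
/-- squares are surjective -/
theorem exists_sq [Finite E] (c : E) : ∃ t, t * t = c := by
  have hinj : Function.Injective (fun t : E => t * t) := by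
    intro s t e
    have h1 : (s + t) * (s + t) = 0 := by
      have h2 : (s + t) * (s + t) = s * s + t * t + (s * t + s * t) := by ring
      have e' : s * s = t * t := e
      rw [h2, e', h.add_self, h.add_self, add_zero]
    have h3 := mul_self_eq_zero.1 h1
    rw [← h.sub_eq] at h3
    exact sub_eq_zero.1 h3
  exact (Finite.injective_iff_surjective.1 hinj) c

omit hk in
theorem trc_self_ne {b : E} (hb : b ≠ 0) : trc σ b⁻¹ b = 1 := by
  unfold trc
  rw [inv_mul_cancel₀ hb, map_one, map_one, h.add_self, zero_add]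

omit hk in
theorem crs_self_ne {r d : E} (hr : σ r ≠ r) (hd : d ≠ 0) : crs σ (d * r) d ≠ 0 := by
  have e : crs σ (d * r) d = σ d * σ (σ d) * (σ r + σ (σ r)) := by
    unfold crs
    simp only [map_mul]
    ring
  rw [e]
  refine mul_ne_zero (mul_ne_zero ?_ ?_) ?_
  · exact (map_ne_zero σ).2 hd
  · exact (map_ne_zero σ).2 ((map_ne_zero σ).2 hd)
  · intro e1
    rw [← map_add] at e1
    have e2 := (map_eq_zero σ).1 e1
    rw [← h.sub_eq] at e2
    exact hr (sub_eq_zero.1 e2).symm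

/-- **`Q/Z` is irreducible.** -/
theorem Q_irred [Finite E] (hs : (∃ r, σ r ≠ r) ∨ ∃ l : E, σ l = l ∧ l * l ≠ l) {Y : Subgroup Γ}
    (hZ : gen σ x {k + 3} ≤ Y) (hY : Y ≤ gen σ x (arc (k + 1) 5)) (hne : Y ≠ gen σ x {k + 3})
    (hx : ∀ s, ∀ y ∈ Y, x k s * y * (x k s)⁻¹ ∈ Y) (hn : ∀ y ∈ Y, nn x k * y * (nn x k)⁻¹ ∈ Y)
    (hH : ∀ g ∈ h.H, ∀ y ∈ Y, g * y * g⁻¹ ∈ Y) : Y = gen σ x (arc (k + 1) 5) := by
  have z3 : ∀ c, σ c = c → x (k + 3) c ∈ Y := fun c hc => hZ (x_mem_gen (Set.mem_singleton _) (ok_of_fix _ hc))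
  -- addition, derivation and reflection
  have In_add : ∀ {a b d e a' b' d' e' : E}, (∃ g ∈ Y, Q4 σ x k g a b d e) → (∃ g ∈ Y, Q4 σ x k g a' b' d' e') →
      ∃ g ∈ Y, Q4 σ x k g (a + a') (b + b') (d + d') (e + e') := by
    rintro _ _ _ _ _ _ _ _ ⟨g, hg, q⟩ ⟨g', hg', q'⟩
    exact ⟨_, mul_mem hg hg', h.Q4_mul hk q q'⟩
  have In_D : ∀ (s : E) {a b d e : E}, (∃ g ∈ Y, Q4 σ x k g a b d e) →
      ∃ g ∈ Y, Q4 σ x k g (trc σ s b + trc σ (shp σ s) d + e * nrm σ s) (crs σ s d + e * shp σ s) (e * s) 0 := by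
    rintro s a b d e ⟨g, hg, q⟩
    refine ⟨_, mul_mem (hx s g hg) hg, Q4_congr (h.Q4_mul hk (h.Q4_up hk s q) q) ?_ ?_ ?_ ?_⟩
    · linear_combination h.add_self a
    · linear_combination h.add_self b
    · linear_combination h.add_self d
    · exact h.add_self e
  have In_N : ∀ {a b d e : E}, (∃ g ∈ Y, Q4 σ x k g a b d e) → ∃ g ∈ Y, Q4 σ x k g e d b a := by
    rintro a b d e ⟨g, hg, q⟩
    exact ⟨_, hn g hg, h.Q4_nn hk q⟩
  have In_congr : ∀ {a b d e a' b' d' e' : E}, (∃ g ∈ Y, Q4 σ x k g a b d e) → a = a' → b = b' → d = d' → e = e' →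
      ∃ g ∈ Y, Q4 σ x k g a' b' d' e' := by
    rintro _ _ _ _ _ _ _ _ q rfl rfl rfl rfl
    exact q
  have out1 : ∀ {a : E}, (∃ g ∈ Y, Q4 σ x k g a 0 0 0) → σ a = a ∧ x (k + 1) a ∈ Y := by
    rintro a ⟨g, hg, ha, -, z, hz, rfl⟩
    rw [h.x_zero, h.x_zero, h.x_zero, mul_one, mul_one, mul_one] at hg
    refine ⟨ha, ?_⟩
    have := mul_mem hg (inv_mem (z3 z hz))
    rwa [mul_inv_cancel_right] at this
  have out2 : ∀ {b : E}, (∃ g ∈ Y, Q4 σ x k g 0 b 0 0) → x (k + 2) b ∈ Y := by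
    rintro b ⟨g, hg, -, -, z, hz, rfl⟩
    rw [h.x_zero, h.x_zero, h.x_zero, one_mul, mul_one, mul_one] at hg
    have := mul_mem hg (inv_mem (z3 z hz))
    rwa [mul_inv_cancel_right] at this
  -- step 0 : a non-trivial element
  have step0 : ∃ a b d e : E, (∃ g ∈ Y, Q4 σ x k g a b d e) ∧ ¬ (a = 0 ∧ b = 0 ∧ d = 0 ∧ e = 0) := by
    by_contra hcon
    push Not at hcon
    apply hne
    refine le_antisymm (fun y hy => ?_) hZ
    obtain ⟨a, b, d, e, q⟩ := h.exists_Q4 hk (hY hy)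
    obtain ⟨h1, h2, h3, h4⟩ := hcon a b d e ⟨y, hy, q⟩
    subst h1 h2 h3 h4
    obtain ⟨-, -, z, hz, rfl⟩ := q
    rw [h.x_zero, h.x_zero, h.x_zero, h.x_zero, one_mul, one_mul, one_mul, one_mul]
    exact x_mem_gen (Set.mem_singleton _) (ok_of_fix _ hz)
  -- step 1 : `e = 0`
  have step1 : ∃ a b d : E, (∃ g ∈ Y, Q4 σ x k g a b d 0) ∧ ¬ (a = 0 ∧ b = 0 ∧ d = 0) := by
    obtain ⟨a, b, d, e, q, hne0⟩ := step0
    by_cases he : e = 0
    · subst he
      exact ⟨a, b, d, q, fun h1 => hne0 ⟨h1.1, h1.2.1, h1.2.2, rfl⟩⟩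
    · refine ⟨_, _, _, In_D 1 q, fun h1 => he ?_⟩
      rw [← h1.2.2, mul_one]
  -- step 2 : `d = e = 0`
  have step2 : ∃ a b : E, (∃ g ∈ Y, Q4 σ x k g a b 0 0) ∧ ¬ (a = 0 ∧ b = 0) := by
    obtain ⟨a, b, d, q, hne0⟩ := step1
    by_cases hd : d = 0
    · subst hd
      exact ⟨a, b, q, fun h1 => hne0 ⟨h1.1, h1.2, rfl⟩⟩
    · have hD : ∀ s, ∃ g ∈ Y, Q4 σ x k g (trc σ s b + trc σ (shp σ s) d) (crs σ s d) 0 0 := fun s =>
        In_congr (In_D s q) (by ring) (by ring) (by ring) rfl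
      by_cases hr : ∃ r, σ r ≠ r
      · obtain ⟨r, hr⟩ := hr
        exact ⟨_, _, hD (d * r), fun h1 => h.crs_self_ne hr hd h1.2⟩
      · push Not at hr
        obtain ⟨l, hl, hl2⟩ := hs.resolve_left (fun ⟨r, h1⟩ => h1 (hr r))
        have hid : ∀ s, trc σ s b + trc σ (shp σ s) d = s * b + s * s * d := by
          intro s
          have e1 : trc σ s b = s * b := by
            unfold trc
            rw [hr, hr]
            linear_combination h.add_self (s * b)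
          have e2 : trc σ (shp σ s) d = s * s * d := by
            unfold trc shp
            rw [hr, hr, hr, hr]
            linear_combination h.add_self (s * s * d)
          rw [e1, e2]
        by_cases h1 : b + d = 0
        · refine ⟨_, _, hD l, fun h2 => ?_⟩
          have h3 := h2.1
          rw [hid] at h3
          have h4 : b = d := by
            rw [← h.sub_eq] at h1
            exact sub_eq_zero.1 h1
          rw [h4] at h3
          have h5 : (l + l * l) * d = 0 := by linear_combination h3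
          rcases mul_eq_zero.1 h5 with h6 | h6
          · rw [← h.sub_eq] at h6
            exact hl2 (sub_eq_zero.1 h6).symm
          · exact hd h6
        · refine ⟨_, _, hD 1, fun h2 => h1 ?_⟩
          have h3 := h2.1
          rw [hid] at h3
          linear_combination h3
  -- step 3 : an element of `X_{k+1}`
  have step3 : ∃ a : E, σ a = a ∧ a ≠ 0 ∧ x (k + 1) a ∈ Y := by
    obtain ⟨a, b, q, hne0⟩ := step2
    by_cases hb : b = 0
    · subst hb
      obtain ⟨h1, h2⟩ := out1 q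
      exact ⟨a, h1, fun e => hne0 ⟨e, rfl⟩, h2⟩
    · have q1 : ∃ g ∈ Y, Q4 σ x k g 1 0 0 0 := by
        refine In_congr (In_D b⁻¹ q) ?_ ?_ ?_ rfl
        · rw [h.trc_self_ne hb]
          unfold trc
          simp only [mul_zero, map_zero, zero_mul, add_zero]
        · unfold crs
          simp only [mul_zero, map_zero, zero_mul, add_zero]
        · rw [zero_mul]
      exact ⟨1, map_one σ, one_ne_zero, (out1 q1).2⟩
  -- step 4 : `X_{k+1} ≤ Y`
  have step4 : ∀ u, σ u = u → x (k + 1) u ∈ Y := by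
    obtain ⟨a, ha, ha0, haY⟩ := step3
    intro u hu
    by_cases hu0 : u = 0
    · rw [hu0, h.x_zero]
      exact one_mem _
    · have ht : σ (u * a⁻¹) = u * a⁻¹ := by rw [map_mul, map_inv₀, hu, ha]
      have ht0 : u * a⁻¹ ≠ 0 := mul_ne_zero hu0 (inv_ne_zero ha0)
      have e1 : (k - 1).val % 2 = 0 := by
        have : ∀ k : ZMod 12, k.val % 2 = 1 → (k - 1).val % 2 = 0 := by decide
        exact this k hk
      have e2 : ∀ k : ZMod 12, k + 1 - (k - 1) = 2 := by decide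
      have h1 := h.tor (k - 1) (k + 1) ht0 (ok_of_fix _ ht) (ok_of_fix _ ha)
      have h2 : ch σ (k - 1) (k + 1 - (k - 1)) (u * a⁻¹) = u * a⁻¹ := by
        rw [e2]
        unfold ch
        rw [if_pos e1]
        rfl
      rw [h2, inv_mul_cancel_right₀ ha0] at h1
      have h3 := hH _ (h.hh_mem_H (k - 1) ht0 (ok_of_fix _ ht)) _ haY
      rwa [h1] at h3
  have step4' : ∀ u, σ u = u → x (k + 5) u ∈ Y := by
    intro u hu
    have h1 := hn _ (step4 u hu)
    rwa [h.refl k _ (ok_of_fix _ hu), ir1] at h1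
  -- step 5 : an element of `X_{k+2}`
  have In1 : ∀ u, σ u = u → ∃ g ∈ Y, Q4 σ x k g u 0 0 0 := fun u hu => ⟨_, step4 u hu, h.Q4_1 hk hu⟩
  have In5 : ∀ u s, σ u = u → ∃ g ∈ Y, Q4 σ x k g 0 (u * shp σ s) (u * s) 0 := by
    intro u s hu
    have f1 : σ (u * nrm σ s) = u * nrm σ s := by rw [map_mul, hu, nrm_fix h.cube]
    have q : ∃ g ∈ Y, Q4 σ x k g 0 0 0 u := ⟨_, step4' u hu, h.Q4_5 hk hu⟩
    refine In_congr (In_add (In_D s q) (In1 _ f1)) ?_ ?_ ?_ ?_
    · unfold trc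
      simp only [mul_zero, map_zero, add_zero, zero_add]
      exact h.add_self _
    · unfold crs
      simp only [mul_zero, map_zero, add_zero, zero_add]
    · rw [add_zero]
    · rw [add_zero]
  have step5 : ∃ c : E, c ≠ 0 ∧ x (k + 2) c ∈ Y := by
    rcases hs with ⟨r, hr⟩ | ⟨l, hl, hl2⟩
    · refine ⟨σ r + σ (σ r), ?_, out2 (In_congr (In_add (In_add (In5 1 1 (map_one σ)) (In5 1 r (map_one σ)))
        (In5 1 (1 + r) (map_one σ))) ?_ ?_ ?_ ?_)⟩
      · intro e1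
        rw [← map_add] at e1
        have e2 := (map_eq_zero σ).1 e1
        rw [← h.sub_eq] at e2
        exact hr (sub_eq_zero.1 e2).symm
      · ring
      · unfold shp
        simp only [map_add, map_one]
        linear_combination h.add_self 1 + h.add_self (σ r * σ (σ r))
      · linear_combination h.add_self 1 + h.add_self r
      · ring
    · refine ⟨l * l + l, ?_, out2 (In_congr (In_add (In5 1 l (map_one σ)) (In5 l 1 hl)) ?_ ?_ ?_ ?_)⟩
      · intro e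
        rw [← h.sub_eq] at e
        exact hl2 (sub_eq_zero.1 e)
      · ring
      · unfold shp
        simp only [map_one, hl]
        ring
      · linear_combination h.add_self l
      · ring
  -- step 6 : `X_{k+2} ≤ Y`
  have step6 : ∀ u, x (k + 2) u ∈ Y := by
    obtain ⟨c, hc0, hcY⟩ := step5
    intro u
    by_cases hu0 : u = 0
    · rw [hu0, h.x_zero]
      exact one_mem _
    · obtain ⟨t, ht⟩ := h.exists_sq (u * c⁻¹)
      have ht0 : t ≠ 0 := by
        rintro rfl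
        rw [mul_zero] at ht
        exact mul_ne_zero hu0 (inv_ne_zero hc0) ht.symm
      have h1 := h.tor (k + 2) (k + 2) ht0 (ok_odd (oe2 k hk) _) (ok_odd (oe2 k hk) c)
      rw [sub_self, ch_zero_right, pow_two, ht, inv_mul_cancel_right₀ hc0] at h1
      have h3 := hH _ (h.hh_mem_H (k + 2) ht0 (ok_odd (oe2 k hk) _)) _ hcY
      rwa [h1] at h3
  have step6' : ∀ u, x (k + 4) u ∈ Y := by
    intro u
    have h1 := hn _ (step6 u)
    rwa [h.refl k _ (ok_odd (oe2 k hk) _), ir2] at h1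
  refine le_antisymm hY (gen_le fun l hl c hc => ?_)
  have key : ∀ k l : ZMod 12, (l - (k + 1)).val < 5 → l = k + 1 ∨ l = k + 2 ∨ l = k + 3 ∨ l = k + 4 ∨ l = k + 5 := by
    decide
  rcases key k l hl with rfl | rfl | rfl | rfl | rfl
  · exact step4 c (hc (oe1 k hk))
  · exact step6 c
  · exact z3 c (hc (oe3 k hk))
  · exact step6' c
  · exact step4' c (hc (oe5 k hk))

/-- `Q/Z` is irreducible, with the opposite root group instead of the reflection. -/
theorem Q_irred' [Finite E] (hs : (∃ r, σ r ≠ r) ∨ ∃ l : E, σ l = l ∧ l * l ≠ l) {Y : Subgroup Γ}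
    (hZ : gen σ x {k + 3} ≤ Y) (hY : Y ≤ gen σ x (arc (k + 1) 5)) (hne : Y ≠ gen σ x {k + 3})
    (hx : ∀ s, ∀ y ∈ Y, x k s * y * (x k s)⁻¹ ∈ Y) (hx6 : ∀ s, ∀ y ∈ Y, x (k + 6) s * y * (x (k + 6) s)⁻¹ ∈ Y)
    (hH : ∀ g ∈ h.H, ∀ y ∈ Y, g * y * g⁻¹ ∈ Y) : Y = gen σ x (arc (k + 1) 5) := by
  refine h.Q_irred hk hs hZ hY hne hx (fun y hy => ?_) hH
  have e : nn x k * y * (nn x k)⁻¹ = x k 1 * (x (k + 6) 1 * (x k 1 * y * (x k 1)⁻¹) * (x (k + 6) 1)⁻¹) * (x k 1)⁻¹ := by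
    unfold nn
    group
  rw [e]
  exact hx 1 _ (hx6 1 _ (hx 1 _ hy))

end HexTwo

end Cfsg.Agent.StdRank2.Hex

end

-- merged: Cfsg.Agent.OddHalf.D4.ThreeD4Two.Base
section

/-!
# ODD half, D4, `K ≅ ³D₄(2)`: the involutions

`Mod σ x` : `X` is generated by a hexagonal root system over `F₈ / F₂`.
* `mem_V_of` : `Z₂(U) ≤ V = X₂X₄`;
* `conj_x4_of_V` : the involutions of `V` are conjugate to `x 4 1`;
* `isSyl_U` : `U` is a Sylow 2-subgroup.
-/

set_option autoImplicit false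
set_option linter.unusedSectionVars false
set_option linter.unusedSimpArgs false

namespace Cfsg.Agent.OddHalf.D4.ThreeD4Two

open Subgroup Cfsg.Agent.StdRank2.Hex Cfsg.Agent.SplitTwo Cfsg.Agent.StdEven.Syl
open Cfsg.Agent.StdRank2.Hex.HexTwo (ok1 ok3 ok5 UU AA q uu q_mem uu_mem)
open scoped commutatorElement

variable {E : Type*} [Field E] {σ : E ≃+* E} {X : Type*} [Group X] {x : ZMod 12 → E → X}

/-- `X` is generated by a hexagonal root system over `F₈ / F₂`. -/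
structure Mod (σ : E ≃+* E) (x : ZMod 12 → E → X) : Prop where
  hex : HexTwo σ x
  card : Nat.card E = 8
  fix : ∀ a, σ a = a → a = 0 ∨ a = 1
  top : AA σ x = ⊤

namespace Mod

variable (M : Mod σ x)

include M

theorem finE : Finite E := Cfsg.Agent.TriTwo.finE M.card

theorem mem_AA (g : X) : g ∈ AA σ x := by rw [M.top]; trivial

theorem exists_mover : ∃ r : E, σ r ≠ r := by
  by_contra hcon
  push Not at hcon
  obtain ⟨η, h0, h1, -⟩ := Cfsg.Agent.TriTwo.exists_eta M.hex.two M.card M.fix M.hex.cube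
  rcases M.fix η (hcon η) with h | h
  · exact h0 h
  · exact h1 h

/-- **`Z₂(U) ≤ X₂X₄`** -/
theorem mem_V_of {u : X} (hu : u ∈ UU σ x) (hc : ∀ v ∈ UU σ x, ⁅u, v⁆ ∈ gen σ x {4}) : u ∈ gen σ x {2, 4} := by
  have h := M.hex
  have z : σ (0 : E) = 0 := map_zero σ
  have o : σ (1 : E) = 1 := map_one σ
  have h1 : u ∈ gen σ x (arc 2 5) := h.mem_Q1_of_U hu fun c => hc _ (x_mem_gen (by rw [mem_arc]; decide) (ok3 c))
  obtain ⟨b, c, d, e, f, hb, hd, hf, rfl⟩ := h.mem_Q1.1 h1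
  -- commutation with `x 1 a`
  have key : ∀ a, trc σ a c + trc σ (shp σ a) e + f * nrm σ a = 0 ∧ crs σ a e + f * shp σ a = 0 ∧ f * a = 0 := by
    intro a
    obtain ⟨t, ht, e1⟩ := (h.mem_gen_singleton (k := 4)).1 (hc (x 1 a) (x_mem_gen (by rw [mem_arc]; decide) (ok1 a)))
    have ht' : σ t = t := ht (by decide)
    have e2 := HexTwo.conj_eq_of_comm e1
    rw [mul_inv_eq_iff_eq_mul] at e2
    -- `q * x1 = x4 t * x1 * q`
    have e3 : x 4 t * x 1 a = x 1 a * x 4 t := (h.s14 a ht').symm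
    rw [e3, mul_assoc, ← h.q4, h.q_mul z ht' z hb hd hf, h.x1_q a (by simp [hb]) (by simp [hd, ht', trc_zero_right])
      (by simp [hf])] at e2
    have e4 := mul_right_cancel e2
    have f1 := h.fix_trc a c
    have f2 := h.fix_trc (shp σ a) e
    have f3 := h.fix_trc a (shp σ e)
    have f4 := h.fix_nrm a
    simp only [zero_add, mul_zero, trc_zero_right, add_zero] at e4
    obtain ⟨r1, r2, -, r4, -⟩ := h.q_inj hb hd hf (by simp only [map_add, map_mul, hb, f1, f2, hf, f4])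
      (by simp only [map_add, map_mul, map_pow, ht', hd, f3, f2, hf, f4]) hf e4
    refine ⟨?_, ?_, ?_⟩
    · have : b + 0 = b + (trc σ a c + trc σ (shp σ a) e + f * nrm σ a) := by
        rw [add_zero, ← add_assoc, ← add_assoc]; exact r1
      exact (add_left_cancel this).symm
    · have : c + 0 = c + (crs σ a e + f * shp σ a) := by rw [add_zero, ← add_assoc]; exact r2
      exact (add_left_cancel this).symm
    · have : e + 0 = e + f * a := by rw [add_zero]; exact r4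
      exact (add_left_cancel this).symm
  have hf0 : f = 0 := by
    have := (key 1).2.2
    rwa [mul_one] at this
  subst hf0
  have he0 : e = 0 := by
    by_contra he
    obtain ⟨r, hr⟩ := M.exists_mover
    have := (key (e * r)).2.1
    rw [zero_mul, add_zero] at this
    exact h.crs_self_ne hr he this
  subst he0
  have hc0 : c = 0 := by
    refine h.eq_zero_of_trc fun y => ?_
    have := (key y).1
    rw [zero_mul, add_zero, trc_zero_right, add_zero, trc_comm] at this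
    exact this
  subst hc0
  exact h.mem_24.2 ⟨b, d, hb, hd, rfl⟩

theorem mem_V {u : X} : u ∈ gen σ x {2, 4} ↔ u = 1 ∨ u = x 2 1 ∨ u = x 4 1 ∨ u = x 2 1 * x 4 1 := by
  have h := M.hex
  rw [h.mem_24]
  constructor
  · rintro ⟨b, d, hb, hd, rfl⟩
    rw [h.q_234, h.x_zero, mul_one]
    rcases M.fix b hb with rfl | rfl <;> rcases M.fix d hd with rfl | rfl
    · left; rw [h.x_zero, h.x_zero, mul_one]
    · right; right; left; rw [h.x_zero, one_mul]
    · right; left; rw [h.x_zero, mul_one]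
    · right; right; right; rfl
  · rintro (rfl | rfl | rfl | rfl)
    · exact ⟨0, 0, map_zero σ, map_zero σ, by rw [h.q_zero]⟩
    · exact ⟨1, 0, map_one σ, map_zero σ, by rw [h.q2]⟩
    · exact ⟨0, 1, map_zero σ, map_one σ, by rw [h.q4]⟩
    · exact ⟨1, 1, map_one σ, map_one σ, by rw [h.q_234, h.x_zero, mul_one]⟩

theorem mem_Z {u : X} : u ∈ gen σ x {4} ↔ u = 1 ∨ u = x 4 1 := by
  have h := M.hex
  rw [h.mem_gen_singleton]
  constructor
  · rintro ⟨a, ha, rfl⟩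
    rcases M.fix a (ha (by decide)) with rfl | rfl
    · left; exact h.x_zero 4
    · right; rfl
  · rintro (rfl | rfl)
    · exact ⟨0, ok_zero σ 4, (h.x_zero 4).symm⟩
    · exact ⟨1, ok_one σ 4, rfl⟩

/-- the reflection `j ↦ 6 - j` -/
theorem nn0_act {j : ZMod 12} {a : E} (ha : Ok σ j a) : nn x 0 * x j a * (nn x 0)⁻¹ = x (6 - j) a := by
  have := M.hex.refl 0 j ha
  rwa [mul_zero, zero_add] at this

/-- conjugation by `x 6 1` -/
theorem x6_act : x 6 1 * x 2 1 * (x 6 1)⁻¹ = x 2 1 * x 4 1 ∧ x 6 1 * x 4 1 * (x 6 1)⁻¹ = x 4 1 ∧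
    ∀ c, x 6 1 * x 3 c * (x 6 1)⁻¹ = x 3 c := by
  have h := M.hex
  have o : σ (1 : E) = 1 := map_one σ
  refine ⟨?_, ?_, fun c => ?_⟩
  · rw [mul_inv_eq_iff_eq_mul]
    have e := h.c26 o o
    rw [one_mul] at e
    have i4 := h.x_sq (ok_of_fix 4 o)
    calc x 6 1 * x 2 1 = x 4 1 * x 4 1 * x 6 1 * x 2 1 := by rw [i4, one_mul]
      _ = x 4 1 * (x 4 1 * x 6 1 * x 2 1) := by group
      _ = x 4 1 * (x 2 1 * x 6 1) := by rw [← e]
      _ = x 4 1 * x 2 1 * x 6 1 := by group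
      _ = _ := by rw [← h.s24 o o]
  · rw [← h.s46 o o, mul_inv_cancel_right]
  · rw [← h.s36 c o, mul_inv_cancel_right]

/-- the involutions of `V` are conjugate to `x 4 1`, by elements centralising `x 3 c`. -/
theorem conj_x4_of_V {v : X} (hv : v ∈ gen σ x {2, 4}) (h1 : v ≠ 1) :
    ∃ g : X, g * v * g⁻¹ = x 4 1 ∧ (∀ c, g * x 3 c * g⁻¹ = x 3 c) ∧ ∀ v' ∈ gen σ x {2, 4}, g * v' * g⁻¹ ∈ gen σ x {2, 4} := by
  have h := M.hex
  obtain ⟨k1, k2, k3⟩ := M.x6_act
  have n2 : nn x 0 * x 2 1 * (nn x 0)⁻¹ = x 4 1 := by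
    rw [M.nn0_act (ok_one σ 2)]; congr 1
  have n4 : nn x 0 * x 4 1 * (nn x 0)⁻¹ = x 2 1 := by
    rw [M.nn0_act (ok_one σ 4)]; congr 1
  have n3 : ∀ c, nn x 0 * x 3 c * (nn x 0)⁻¹ = x 3 c := fun c => by
    rw [M.nn0_act (ok3 c)]; congr 1
  have q24 : x 2 1 * x 4 1 = x 4 1 * x 2 1 := h.s24 (map_one σ) (map_one σ)
  have i4 := h.x_sq (ok_of_fix 4 (map_one σ))
  have n0 : ∀ v' ∈ gen σ x {2, 4}, nn x 0 * v' * (nn x 0)⁻¹ ∈ gen σ x {2, 4} := by
    intro v' hv'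
    rw [M.mem_V] at hv' ⊢
    rcases hv' with rfl | rfl | rfl | rfl
    · left; group
    · right; right; left; exact n2
    · right; left; exact n4
    · right; right; right
      calc nn x 0 * (x 2 1 * x 4 1) * (nn x 0)⁻¹ = (nn x 0 * x 2 1 * (nn x 0)⁻¹) * (nn x 0 * x 4 1 * (nn x 0)⁻¹) := by
            group
        _ = _ := by rw [n2, n4, q24]
  have n6 : ∀ v' ∈ gen σ x {2, 4}, x 6 1 * v' * (x 6 1)⁻¹ ∈ gen σ x {2, 4} := by
    intro v' hv'
    rw [M.mem_V] at hv' ⊢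
    rcases hv' with rfl | rfl | rfl | rfl
    · left; group
    · right; right; right; exact k1
    · right; right; left; exact k2
    · right; left
      calc x 6 1 * (x 2 1 * x 4 1) * (x 6 1)⁻¹ = (x 6 1 * x 2 1 * (x 6 1)⁻¹) * (x 6 1 * x 4 1 * (x 6 1)⁻¹) := by
            group
        _ = _ := by rw [k1, k2, mul_assoc, i4, mul_one]
  rcases M.mem_V.1 hv with rfl | rfl | rfl | rfl
  · exact absurd rfl h1
  · exact ⟨nn x 0, n2, n3, n0⟩
  · exact ⟨1, by group, fun c => by group, fun v' hv' => by rw [one_mul, inv_one, mul_one]; exact hv'⟩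
  · refine ⟨nn x 0 * (x 6 1), ?_, fun c => ?_, fun v' hv' => ?_⟩
    · calc nn x 0 * x 6 1 * (x 2 1 * x 4 1) * (nn x 0 * x 6 1)⁻¹
          = nn x 0 * ((x 6 1 * x 2 1 * (x 6 1)⁻¹) * (x 6 1 * x 4 1 * (x 6 1)⁻¹)) * (nn x 0)⁻¹ := by group
        _ = _ := by rw [k1, k2, mul_assoc (x 2 1), i4, mul_one, n2]
    · calc nn x 0 * x 6 1 * x 3 c * (nn x 0 * x 6 1)⁻¹ = nn x 0 * (x 6 1 * x 3 c * (x 6 1)⁻¹) * (nn x 0)⁻¹ := by group
        _ = _ := by rw [k3, n3]
    · have : nn x 0 * x 6 1 * v' * (nn x 0 * x 6 1)⁻¹ = nn x 0 * (x 6 1 * v' * (x 6 1)⁻¹) * (nn x 0)⁻¹ := by group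
      rw [this]
      exact n0 _ (n6 _ hv')

/-- `U` is a Sylow 2-subgroup. -/
theorem isSyl_U [Finite X] : IsSyl (UU σ x) ⊤ := by
  have := M.finE
  refine ⟨le_top, M.hex.isPGroup_U, fun Q hQ _ hUQ => ?_⟩
  have htop : UU σ x ≤ ⊤ := le_top
  obtain ⟨p, -, hp⟩ := M.hex.sylow_conj (S := AA σ x) (HexTwo.gen_le_AA _) le_rfl hQ (by rw [M.top]; exact le_top)
  refine (Subgroup.eq_of_le_of_card_ge hUQ ?_).symm
  have h1 : Q.map (MulAut.conj p).toMonoidHom ≤ UU σ x := by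
    rintro _ ⟨y, hy, rfl⟩
    exact hp y hy
  calc Nat.card Q = Nat.card (Q.map (MulAut.conj p).toMonoidHom) :=
        Nat.card_congr (Q.equivMapOfInjective (MulAut.conj p).toMonoidHom (MulAut.conj p).injective).toEquiv
    _ ≤ Nat.card (UU σ x) := Nat.card_le_card_of_injective _ (Subgroup.inclusion_injective h1)

/-- `x 4 1` centralises `U` -/
theorem x4_comm {u : X} (hu : u ∈ UU σ x) : u * x 4 1 = x 4 1 * u := by
  have := M.hex.comm_gen_long (k := 4) (by decide) (ok_of_fix _ (map_one σ)) (g := u) (gen_mono (by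
      intro l hl
      rw [mem_arc] at hl ⊢
      rw [show (4 : ZMod 12) - 3 = 1 by ring]
      omega) hu)
  exact this.eq.symm

end Mod

end Cfsg.Agent.OddHalf.D4.ThreeD4Two

end

-- merged: Cfsg.Agent.OddHalf.D4.ThreeD4Two.Bad
section

/-!
# ODD half, D4, `K ≅ ³D₄(2)`: no `Bad` subgroup

`w = x 3 1`, `B = C_U(w)` is a Sylow 2-subgroup of `C(w)`; a normal subgroup `N ∋ w` of `C(w)` without 2-central
involutions meets `B` in `⟨w⟩`.
-/

set_option autoImplicit false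
set_option linter.unusedSectionVars false
set_option linter.unusedSimpArgs false

namespace Cfsg.Agent.OddHalf.D4.ThreeD4Two

open Subgroup Cfsg.Agent.OddHalf.D4.Spor

variable {X Y : Type*} [Group X] [Group Y]

theorem bad_map (e : X ≃* Y) {w : X} {N : Subgroup X} (h : Bad w N) : Bad (e w) (N.map e.toMonoidHom) where
  sq := by rw [← map_mul, h.sq, map_one]
  ne := fun h1 => h.ne (by apply e.injective; rw [h1, map_one])
  mem := ⟨w, h.mem, rfl⟩
  le := by
    rintro _ ⟨n, hn, rfl⟩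
    show e n * e w = e w * e n
    rw [← map_mul, h.le n hn, map_mul]
  norm := by
    rintro c hc _ ⟨n, hn, rfl⟩
    obtain ⟨c, rfl⟩ := e.surjective c
    refine ⟨c * n * c⁻¹, h.norm c ?_ n hn, ?_⟩
    · apply e.injective
      rw [map_mul, map_mul, hc]
    · show e (c * n * c⁻¹) = e c * e n * (e c)⁻¹
      rw [map_mul, map_mul, map_inv]
  four := by
    have : Nat.card ↥(N.map e.toMonoidHom) = Nat.card ↥N :=
      (Nat.card_congr (N.equivMapOfInjective e.toMonoidHom e.injective).toEquiv).symm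
    rw [this]; exact h.four
  non := by
    rintro _ ⟨n, hn, rfl⟩ h1 h2 h3
    refine h.non n hn ?_ ?_ ((cen_iff e).1 h3)
    · apply e.injective
      rw [map_mul, map_one]; exact h1
    · rintro rfl
      exact h2 (map_one _)

/-- `Cen` is invariant under conjugation. -/
theorem cen_of_conj {w : X} (g : X) (h : Cen (g * w * g⁻¹)) : Cen w := (cen_iff (MulAut.conj g)).1 h

theorem card_mul_relIndex {H K : Subgroup X} (hle : H ≤ K) : Nat.card ↥H * H.relIndex K = Nat.card ↥K := by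
  rw [← relIndex_bot_left, ← relIndex_bot_left]
  exact relIndex_mul_relIndex _ _ _ bot_le hle

/-- counting of a conjugacy class -/
theorem card_le_of_conj [Finite X] {U B : Subgroup X} {w : X} (hB : ∀ u ∈ U, u * w = w * u → u ∈ B)
    (T : Finset X) (hT : ∀ u ∈ U, u * w * u⁻¹ ∈ T) : Nat.card ↥U ≤ T.card * Nat.card ↥B := by
  classical
  have hr : ∀ t : {t // t ∈ T}, ∃ r : X, (∃ u ∈ U, u * w * u⁻¹ = t) → r ∈ U ∧ r * w * r⁻¹ = t := by
    intro t
    by_cases h : ∃ u ∈ U, u * w * u⁻¹ = t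
    · obtain ⟨u, hu, e⟩ := h
      exact ⟨u, fun _ => ⟨hu, e⟩⟩
    · exact ⟨1, fun h' => absurd h' h⟩
  choose r hr using hr
  let φ : ↥U → {t // t ∈ T} × ↥B := fun u =>
    (⟨(u : X) * w * (u : X)⁻¹, hT u u.2⟩, ⟨(r ⟨(u : X) * w * (u : X)⁻¹, hT u u.2⟩)⁻¹ * u, by
      obtain ⟨h1, h2⟩ := hr ⟨(u : X) * w * (u : X)⁻¹, hT u u.2⟩ ⟨u, u.2, rfl⟩
      refine hB _ (mul_mem (inv_mem h1) u.2) ?_
      set r0 := r ⟨(u : X) * w * (u : X)⁻¹, hT u u.2⟩
      have h3 : r0 * w * r0⁻¹ = u * w * (u : X)⁻¹ := h2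
      calc r0⁻¹ * u * w = r0⁻¹ * (u * w * (u : X)⁻¹) * u := by group
        _ = r0⁻¹ * (r0 * w * r0⁻¹) * u := by rw [h3]
        _ = w * (r0⁻¹ * u) := by group⟩)
  have hφ : Function.Injective φ := by
    intro u v huv
    have h1 : (u : X) * w * (u : X)⁻¹ = v * w * (v : X)⁻¹ := congrArg (fun y => (y.1 : X)) huv
    have h2 : (r ⟨(u : X) * w * (u : X)⁻¹, hT u u.2⟩)⁻¹ * (u : X) = (r ⟨(v : X) * w * (v : X)⁻¹, hT v v.2⟩)⁻¹ * v :=
      congrArg (fun y => (y.2 : X)) huv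
    apply Subtype.ext
    have h3 : (⟨(u : X) * w * (u : X)⁻¹, hT u u.2⟩ : {t // t ∈ T}) = ⟨(v : X) * w * (v : X)⁻¹, hT v v.2⟩ :=
      Subtype.ext h1
    rw [h3] at h2
    exact mul_left_cancel h2
  calc Nat.card ↥U ≤ Nat.card ({t // t ∈ T} × ↥B) := Nat.card_le_card_of_injective φ hφ
    _ = T.card * Nat.card ↥B := by
      rw [Nat.card_prod, Nat.card_eq_fintype_card, Fintype.card_coe]

end Cfsg.Agent.OddHalf.D4.ThreeD4Two

namespace Cfsg.Agent.OddHalf.D4.ThreeD4Two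

open Subgroup Cfsg.Agent.StdRank2.Hex Cfsg.Agent.SplitTwo Cfsg.Agent.StdEven.Syl Cfsg.Agent.OddHalf.D4.Spor
open Cfsg.Agent.StdRank2.Hex.HexTwo (ok1 ok3 ok5 UU AA q uu q_mem uu_mem)
open scoped commutatorElement

variable {E : Type*} [Field E] {σ : E ≃+* E} {X : Type*} [Group X] {x : ZMod 12 → E → X}

namespace Mod

variable (M : Mod σ x)

include M

theorem cen_x4 [Finite X] : Cen (x 4 1) := by
  obtain ⟨P, hP⟩ := M.isSyl_U.exists_sylow
  refine ⟨P, fun s hs => M.x4_comm ?_⟩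
  rw [← hP]; exact hs

theorem cen_V [Finite X] {v : X} (hv : v ∈ gen σ x {2, 4}) (h1 : v ≠ 1) : Cen v := by
  obtain ⟨g, hg, -⟩ := M.conj_x4_of_V hv h1
  apply cen_of_conj g
  rw [hg]
  exact M.cen_x4

/-- `x 3 1`: an element of trace zero with trivial trace to all elements of trace zero -/
theorem zero_or_one_of_trc {c : E} (hc : ∀ y, trc σ y 1 = 0 → trc σ y c = 0) : c = 0 ∨ c = 1 := by
  have h := M.hex
  have hs : σ (trc σ 1 c) = trc σ 1 c := h.fix_trc 1 c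
  have key : ∀ y, trc σ (c - trc σ 1 c) y = 0 := by
    intro y
    have ht : σ (trc σ y 1) = trc σ y 1 := h.fix_trc y 1
    have h1 : trc σ (y + trc σ y 1) 1 = 0 := by
      rw [trc_add_left]
      have : trc σ (trc σ y 1) 1 = trc σ y 1 := by rw [trc_comm]; exact h.trc_one_right ht
      rw [this]
      exact h.add_self _
    have h2 := hc _ h1
    rw [trc_add_left] at h2
    have h3 : trc σ (trc σ y 1) c = trc σ y 1 * trc σ 1 c := by
      have := trc_smul_left ht 1 c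
      rwa [mul_one] at this
    have h4 : trc σ y (trc σ 1 c) = trc σ 1 c * trc σ y 1 := by
      have := trc_smul_right hs y 1
      rwa [mul_one] at this
    rw [trc_comm, h.sub_eq, trc_add_right, h4, mul_comm (trc σ 1 c), ← h3]
    exact h2
  have h0 : c - trc σ 1 c = 0 := h.eq_zero_of_trc key
  have h1 : c = trc σ 1 c := sub_eq_zero.1 h0
  rcases M.fix _ hs with h2 | h2
  · left; rw [h1, h2]
  · right; rw [h1, h2]

/-- an involution centralized by a 2-subgroup of index at most two in a Sylow 2-subgroup is conjugate to `x 4 1`. -/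
theorem conj_x4_of_card [Finite X] {w : X} (hw : w * w = 1) (hw1 : w ≠ 1) {P : Subgroup X} (hP : IsPGroup 2 ↥P)
    (hPw : ∀ p ∈ P, p * w = w * p) (hcard : Nat.card ↥(UU σ x) ≤ 2 * Nat.card ↥P) : ∃ g : X, g * w * g⁻¹ = x 4 1 := by
  have h := M.hex
  have := M.finE
  -- a Sylow 2-subgroup of `C(w)`
  obtain ⟨P', hP', hPP'⟩ := exists_isSyl (N := centralizer ({w} : Set X)) hP
    (fun p hp => mem_centralizer_singleton_iff.mpr (hPw p hp))
  have hwC : w ∈ centralizer ({w} : Set X) := mem_centralizer_singleton_iff.mpr rfl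
  have hwP' : w ∈ P' := by
    have hz : IsPGroup 2 ↥(zpowers w) := Cfsg.Agent.TriTwo.SecOne.isPGroup_zpowers (m := 1) (by rw [pow_one, pow_two, hw])
    have hn : P' ≤ normalizer (zpowers w : Set X) := by
      intro p hp
      have hpw : p * w = w * p := mem_centralizer_singleton_iff.mp (hP'.le hp)
      apply mem_normalizer_of_conj_le
      intro y hy
      obtain ⟨k, rfl⟩ := mem_zpowers_iff.mp hy
      have : p * w ^ k * p⁻¹ = w ^ k := by
        have : Commute p w := hpw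
        rw [(this.zpow_right k).eq, mul_inv_cancel_right]
      rw [this]; exact hy
    have h2 : IsPGroup 2 ↥(P' ⊔ zpowers w) := IsPGroup.to_sup_of_normal_right' hP'.two hz hn
    have h3 := hP'.max _ h2 (sup_le hP'.le (by rw [zpowers_le]; exact hwC)) le_sup_left
    rw [← h3]
    exact (le_sup_right : zpowers w ≤ _) (mem_zpowers w)
  have hcard' : Nat.card ↥(UU σ x) ≤ 2 * Nat.card ↥P' :=
    hcard.trans (Nat.mul_le_mul_left 2 (Nat.card_le_card_of_injective _ (Subgroup.inclusion_injective hPP')))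
  -- conjugate it into `U`
  obtain ⟨g, -, hg⟩ := h.sylow_conj (S := AA σ x) (HexTwo.gen_le_AA _) le_rfl hP'.two (by rw [M.top]; exact le_top)
  set w' := g * w * g⁻¹ with hw'
  have hw'U : w' ∈ UU σ x := hg w hwP'
  have hw'2 : w' * w' = 1 := by
    rw [hw']
    calc g * w * g⁻¹ * (g * w * g⁻¹) = g * (w * w) * g⁻¹ := by group
      _ = 1 := by rw [hw]; group
  have hinv : w'⁻¹ = w' := inv_eq_of_mul_eq_one_left hw'2
  have hw'1 : w' ≠ 1 := by
    intro h0
    apply hw1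
    have : w = g⁻¹ * w' * g := by rw [hw']; group
    rw [this, h0]; group
  set C := UU σ x ⊓ centralizer ({w'} : Set X) with hC
  have hPC : P'.map (MulAut.conj g).toMonoidHom ≤ C := by
    rintro _ ⟨p, hp, rfl⟩
    refine ⟨hg p hp, mem_centralizer_singleton_iff.mpr ?_⟩
    have hpw : p * w = w * p := mem_centralizer_singleton_iff.mp (hP'.le hp)
    show g * p * g⁻¹ * (g * w * g⁻¹) = g * w * g⁻¹ * (g * p * g⁻¹)
    calc g * p * g⁻¹ * (g * w * g⁻¹) = g * (p * w) * g⁻¹ := by group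
      _ = g * (w * p) * g⁻¹ := by rw [hpw]
      _ = _ := by group
  have hcC : Nat.card ↥(UU σ x) ≤ 2 * Nat.card ↥C := by
    refine hcard'.trans (Nat.mul_le_mul_left 2 ?_)
    calc Nat.card ↥P' = Nat.card ↥(P'.map (MulAut.conj g).toMonoidHom) :=
          Nat.card_congr (P'.equivMapOfInjective (MulAut.conj g).toMonoidHom (MulAut.conj g).injective).toEquiv
      _ ≤ Nat.card ↥C := Nat.card_le_card_of_injective _ (Subgroup.inclusion_injective hPC)
  have memC : ∀ {u : X}, u ∈ UU σ x → (u ∈ C ↔ u * w' * u⁻¹ = w') := by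
    intro u hu
    constructor
    · rintro ⟨-, h2⟩
      rw [mem_centralizer_singleton_iff.mp h2, mul_inv_cancel_right]
    · intro h2
      exact ⟨hu, mem_centralizer_singleton_iff.mpr (mul_inv_eq_iff_eq_mul.mp h2)⟩
  -- the index of `C` in `U`
  have hidx : C.relIndex (UU σ x) = 1 ∨ C.relIndex (UU σ x) = 2 := by
    have h1 := card_mul_relIndex (H := C) (K := UU σ x) inf_le_left
    have h2 : 0 < Nat.card ↥C := Nat.card_pos
    have h3 : 0 < Nat.card ↥(UU σ x) := Nat.card_pos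
    have h4 : C.relIndex (UU σ x) ≤ 2 := by
      by_contra hcon
      have : Nat.card ↥C * 3 ≤ Nat.card ↥C * C.relIndex (UU σ x) := Nat.mul_le_mul_left _ (by omega)
      omega
    have h5 : C.relIndex (UU σ x) ≠ 0 := by
      intro h0
      rw [h0, mul_zero] at h1
      omega
    omega
  -- `[w', v] ∈ X₄`
  have hcomm : ∀ v ∈ UU σ x, ⁅w', v⁆ ∈ gen σ x {4} := by
    intro v hv
    by_cases hvC : v ∈ C
    · have : ⁅w', v⁆ = 1 := by
        rw [commutatorElement_eq_one_iff_mul_comm]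
        exact (mem_centralizer_singleton_iff.mp hvC.2).symm
      rw [this]; exact one_mem _
    have h2 : (C.subgroupOf (UU σ x)).index = 2 := by
      rcases hidx with h1 | h1
      · exfalso
        apply hvC
        rw [Subgroup.relIndex_eq_one] at h1
        exact h1 hv
      · exact h1
    have hmul : ∀ {a b : X}, a ∈ UU σ x → b ∈ UU σ x → (a * b ∈ C ↔ (a ∈ C ↔ b ∈ C)) := by
      intro a b ha hb
      exact Subgroup.mul_mem_iff_of_index_two h2 (a := ⟨a, ha⟩) (b := ⟨b, hb⟩)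
    -- all elements outside `C` do the same
    have hout : ∀ {u : X}, u ∈ UU σ x → u ∉ C → u * w' * u⁻¹ = v * w' * v⁻¹ := by
      intro u hu huC
      have h3 : v⁻¹ * u ∈ C := (hmul (inv_mem hv) hu).2 (by
        rw [inv_mem_iff]
        exact ⟨fun h => absurd h hvC, fun h => absurd h huC⟩)
      have h4 := (memC (mul_mem (inv_mem hv) hu)).1 h3
      calc u * w' * u⁻¹ = v * (v⁻¹ * u * w' * (v⁻¹ * u)⁻¹) * v⁻¹ := by group
        _ = _ := by rw [h4]
    have hw'C : w' ∈ C := ⟨hw'U, mem_centralizer_singleton_iff.mpr rfl⟩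
    have hvw : v * w' * v⁻¹ ∈ C := by
      rw [hmul (mul_mem hv hw'U) (inv_mem hv), hmul hv hw'U, inv_mem_iff]
      tauto
    have hz : ⁅w', v⁆ = w' * (v * w' * v⁻¹) := by
      rw [commutatorElement_def, hinv]; group
    rw [hz]
    refine h.mem_X4_of_U (mul_mem hw'U (mul_mem (mul_mem hv hw'U) (inv_mem hv))) fun u hu => ?_
    have hcw : v * w' * v⁻¹ * w' = w' * (v * w' * v⁻¹) := mem_centralizer_singleton_iff.mp hvw.2
    have key : u * (w' * (v * w' * v⁻¹)) * u⁻¹ = w' * (v * w' * v⁻¹) := by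
      by_cases huC : u ∈ C
      · have h5 := (memC hu).1 huC
        have h6 : u * v ∉ C := by rw [hmul hu hv]; tauto
        have h7 := hout (mul_mem hu hv) h6
        calc u * (w' * (v * w' * v⁻¹)) * u⁻¹ = (u * w' * u⁻¹) * (u * v * w' * (u * v)⁻¹) := by group
          _ = _ := by rw [h5, h7]
      · have h5 := hout hu huC
        have h6 : u * v ∈ C := by rw [hmul hu hv]; tauto
        have h7 := (memC (mul_mem hu hv)).1 h6
        calc u * (w' * (v * w' * v⁻¹)) * u⁻¹ = (u * w' * u⁻¹) * (u * v * w' * (u * v)⁻¹) := by group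
          _ = _ := by rw [h5, h7, hcw]
    exact (mul_inv_eq_iff_eq_mul.mp key).symm
  obtain ⟨g', hg', -⟩ := M.conj_x4_of_V (M.mem_V_of hw'U hcomm) hw'1
  refine ⟨g' * g, ?_⟩
  rw [← hg', hw']
  group

/-- `C_U(x 3 1)` -/
theorem card_U_le [Finite X] : Nat.card ↥(UU σ x) ≤ 4 * Nat.card ↥(UU σ x ⊓ centralizer ({x 3 1} : Set X)) := by
  classical
  have h := M.hex
  refine (card_le_of_conj (B := UU σ x ⊓ centralizer ({x 3 1} : Set X)) (w := x 3 1) (fun u hu huw => ⟨hu,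
    mem_centralizer_singleton_iff.mpr huw⟩) ({q x 0 1 0 0 0, q x 0 1 1 0 0, q x 1 1 0 0 0, q x 1 1 1 0 0} : Finset X)
    ?_).trans (Nat.mul_le_mul_right _ ?_)
  · intro u hu
    obtain ⟨a, b, c, d, e, f, hb, hd, hf, rfl⟩ := h.mem_UU.1 hu
    rw [h.uu_x3 hb hd hf, mul_inv_cancel_right]
    simp only [Finset.mem_insert, Finset.mem_singleton]
    rcases M.fix _ (h.fix_trc a 1) with h1 | h1 <;> rcases M.fix _ (h.fix_trc 1 e) with h2 | h2 <;>
      rw [h1, h2] <;> tauto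
  · refine (Finset.card_insert_le _ _).trans ?_
    have h1 := Finset.card_insert_le (q x 0 1 1 0 0) ({q x 1 1 0 0 0, q x 1 1 1 0 0} : Finset X)
    have h2 := Finset.card_insert_le (q x 1 1 0 0 0) ({q x 1 1 1 0 0} : Finset X)
    rw [Finset.card_singleton] at h2
    omega

/-- `C_U(x 3 1)` is a Sylow 2-subgroup of `C(x 3 1)`. -/
theorem isSyl_CU [Finite X] : IsSyl (UU σ x ⊓ centralizer ({x 3 1} : Set X)) (centralizer ({x 3 1} : Set X)) := by
  have h := M.hex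
  have := M.finE
  have h2 : IsPGroup 2 ↥(UU σ x ⊓ centralizer ({x 3 1} : Set X)) := h.isPGroup_U.to_le inf_le_left
  refine ⟨inf_le_right, h2, fun Q hQ hQC hle => ?_⟩
  refine (Subgroup.eq_of_le_of_card_ge hle ?_).symm
  by_contra hcon
  push Not at hcon
  have hlt : 2 * Nat.card ↥(UU σ x ⊓ centralizer ({x 3 1} : Set X)) ≤ Nat.card ↥Q := by
    obtain ⟨k, hk⟩ := card_dvd_of_le hle
    have : 0 < Nat.card ↥(UU σ x ⊓ centralizer ({x 3 1} : Set X)) := Nat.card_pos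
    rcases k with _ | _ | k
    · omega
    · omega
    · rw [hk, mul_comm]
      exact Nat.mul_le_mul_left _ (by omega)
  have hcard := M.card_U_le
  have h31 : x 3 1 ≠ 1 := by
    intro h0
    exact one_ne_zero ((h.x_eq_one (ok3 (1 : E))).1 h0)
  obtain ⟨g, hg⟩ := M.conj_x4_of_card (h.x_sq (ok3 (1 : E))) h31 hQ
    (fun p hp => mem_centralizer_singleton_iff.mp (hQC hp)) (by omega)
  exact h.x3_not_conj (M.mem_AA g) one_ne_zero (map_one σ) hg

/-- the key computation: a subgroup `T` of `C_U(w)`, `w = x 3 1 ∈ T`, normalised by `C_U(w)`, with `T ∩ V = 1` -/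
theorem T_le {T : Subgroup X} (hT : T ≤ UU σ x ⊓ centralizer ({x 3 1} : Set X)) (hw : x 3 1 ∈ T)
    (hn : ∀ b ∈ UU σ x ⊓ centralizer ({x 3 1} : Set X), ∀ t ∈ T, b * t * b⁻¹ ∈ T)
    (hV : ∀ t ∈ T, t ∈ gen σ x {2, 4} → t = 1) {t : X} (ht : t ∈ T) : t = 1 ∨ t = x 3 1 := by
  have h := M.hex
  have z : σ (0 : E) = 0 := map_zero σ
  have o : σ (1 : E) = 1 := map_one σ
  -- commutators with elements of `B` are in `T`
  have hcm : ∀ b ∈ UU σ x, b * x 3 1 = x 3 1 * b → ∀ t ∈ T, t * b * t⁻¹ * b⁻¹ ∈ T := by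
    intro b hb hbc t ht
    have := hn b ⟨hb, mem_centralizer_singleton_iff.mpr hbc⟩ t⁻¹ (inv_mem ht)
    have e : t * b * t⁻¹ * b⁻¹ = t * (b * t⁻¹ * b⁻¹) := by group
    rw [e]
    exact mul_mem ht this
  have x2U : x 2 1 ∈ UU σ x := x_mem_gen (by rw [mem_arc]; decide) (ok_one σ 2)
  have x3U : ∀ c, x 3 c ∈ UU σ x := fun c => x_mem_gen (by rw [mem_arc]; decide) (ok3 c)
  have x1U : ∀ c, x 1 c ∈ UU σ x := fun c => x_mem_gen (by rw [mem_arc]; decide) (ok1 c)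
  have c33 : ∀ c, x 3 c * x 3 1 = x 3 1 * x 3 c := fun c => (h.x_comm_same (ok3 c) (ok3 1)).eq
  obtain ⟨a, b, c, d, e, f, hb, hd, hf, rfl⟩ := h.mem_UU.1 (hT ht).1
  -- commutation with `x 2 1`
  have hf0 : f = 0 := by
    have h1 := hcm (x 2 1) x2U (h.s23 o 1) _ ht
    have e1 : uu x a b c d e f * x 2 1 * (uu x a b c d e f)⁻¹ * (x 2 1)⁻¹ = x 4 f := by
      have e2 : uu x a b c d e f * x 2 1 = q x 1 0 f 0 0 * uu x a b c d e f := by
        rw [← h.q2, h.uu_q234 hb hd hf o z]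
        simp only [trc_zero_right, trc_zero_left, zero_add, add_zero, one_mul]
      rw [e2, mul_inv_cancel_right, h.q_234, h.x_zero, mul_one, h.s24 o hf, mul_inv_cancel_right]
    rw [e1] at h1
    have h2 := hV _ h1 (x_mem_gen (by simp) (ok_of_fix 4 hf))
    exact (h.x_eq_one (ok_of_fix 4 hf)).1 h2
  subst hf0
  -- commutation with `x 3 y`
  have h3 : ∀ y, trc σ a y = 0 ∧ trc σ y e = 0 := by
    intro y
    have h1 := hcm (x 3 y) (x3U y) (c33 y) _ ht
    have f1 := h.fix_trc a y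
    have f2 := h.fix_trc y e
    have e1 : uu x a b c d e 0 * x 3 y * (uu x a b c d e 0)⁻¹ * (x 3 y)⁻¹ = q x (trc σ a y) 0 (trc σ y e) 0 0 := by
      rw [h.uu_x3 hb hd hf, mul_inv_cancel_right, mul_inv_eq_iff_eq_mul, ← h.q3, h.q_mul f1 f2 z z z z]
      simp only [trc_zero_right, zero_add, add_zero, mul_zero]
    rw [e1] at h1
    have h2 := hV _ h1 (h.mem_24.2 ⟨_, _, f1, f2, rfl⟩)
    rw [← h.q_zero] at h2
    obtain ⟨r1, -, r2, -⟩ := h.q_inj f1 f2 z z z z h2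
    exact ⟨r1, r2⟩
  have ha : a = 0 := h.eq_zero_of_trc fun y => (h3 y).1
  have he : e = 0 := h.eq_zero_of_trc fun y => by rw [trc_comm]; exact (h3 y).2
  subst ha he
  -- commutation with `x 1 y`
  have h1 : ∀ y, trc σ y 1 = 0 → trc σ y c = 0 := by
    intro y hy
    have f1 := h.fix_trc y c
    have hy1 : x 1 y * x 3 1 = x 3 1 * x 1 y := by
      rw [h.c13, hy, h.x_zero, one_mul]
    have h1 := hcm (x 1 y) (x1U y) hy1 _ ht
    have e1 : uu x 0 b c d 0 0 * x 1 y * (uu x 0 b c d 0 0)⁻¹ * (x 1 y)⁻¹ = x 2 (trc σ y c) := by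
      have e2 : x 1 y * q x b c d 0 0 = q x (b + trc σ y c) c d 0 0 * x 1 y := by
        rw [h.x1_q y hb hd z]
        simp only [trc_zero_right, crs_zero_right, zero_mul, add_zero, shp_zero, show (0 : E) ^ 2 = 0 by norm_num]
      have e3 : x 2 (trc σ y c) * q x b c d 0 0 = q x (b + trc σ y c) c d 0 0 := by
        rw [← h.q2, h.q_mul f1 z z hb hd z]
        simp only [mul_zero, trc_zero_right, zero_add, add_zero]
        rw [add_comm]
      have i2 : x 2 (trc σ y c) * x 2 (trc σ y c) = 1 := h.x_sq (ok_of_fix 2 f1)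
      have e4 : x 1 y * q x b c d 0 0 = x 2 (trc σ y c) * (q x b c d 0 0 * x 1 y) := by
        rw [e2, ← e3, mul_assoc]
      have e5 : q x b c d 0 0 * x 1 y = x 2 (trc σ y c) * (x 1 y * q x b c d 0 0) := by
        rw [e4, ← mul_assoc, i2, one_mul]
      rw [h.uq, e5]
      group
    rw [e1] at h1
    have h2 := hV _ h1 (x_mem_gen (by simp) (ok_of_fix 2 f1))
    exact (h.x_eq_one (ok_of_fix 2 f1)).1 h2
  rw [h.uq] at ht ⊢
  rcases M.zero_or_one_of_trc h1 with rfl | rfl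
  · left
    exact hV _ ht (h.mem_24.2 ⟨b, d, hb, hd, rfl⟩)
  · right
    have e1 : q x b 1 d 0 0 * x 3 1 = q x b 0 d 0 0 := by
      rw [← h.q3, h.q_mul hb hd z z z z]
      simp only [mul_zero, trc_zero_right, add_zero]
      rw [h.add_self]
    have h2 := hV _ (e1 ▸ mul_mem ht hw) (h.mem_24.2 ⟨b, d, hb, hd, rfl⟩)
    rw [← e1] at h2
    have h3 := h.x_sq (ok3 (1 : E))
    exact mul_right_cancel (h2.trans h3.symm)

/-- **`Bad` is impossible.** -/
theorem not_bad [Finite X] (w : X) (N : Subgroup X) : ¬ Bad w N := by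
  intro hB
  have h := M.hex
  have := M.finE
  -- `w` is conjugate to `x 3 1`
  have hz : IsPGroup 2 ↥(zpowers w) := Cfsg.Agent.TriTwo.SecOne.isPGroup_zpowers (m := 1)
    (by rw [pow_one, pow_two, hB.sq])
  obtain ⟨g, -, hg⟩ := h.sylow_conj (S := AA σ x) (HexTwo.gen_le_AA _) le_rfl hz (by rw [M.top]; exact le_top)
  have hgU := hg w (mem_zpowers w)
  have hg2 : g * w * g⁻¹ * (g * w * g⁻¹) = 1 := by
    calc g * w * g⁻¹ * (g * w * g⁻¹) = g * (w * w) * g⁻¹ := by group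
      _ = 1 := by rw [hB.sq]; group
  have hg1 : g * w * g⁻¹ ≠ 1 := by
    intro h0
    apply hB.ne
    have : w = g⁻¹ * (g * w * g⁻¹) * g := by group
    rw [this, h0]; group
  rcases h.cls_U hgU hg2 hg1 with ⟨a, -, ha⟩ | ⟨a, -, ha⟩
  · apply hB.non w hB.mem hB.sq hB.ne
    apply cen_of_conj g
    apply cen_of_conj a
    rw [ha]
    exact M.cen_x4
  have hB' : Bad (x 3 1) (N.map (MulAut.conj (a * g)).toMonoidHom) := by
    have := bad_map (MulAut.conj (a * g)) hB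
    have e : (MulAut.conj (a * g)) w = x 3 1 := by
      rw [← ha, MulAut.conj_apply]; group
    rwa [e] at this
  set N' := N.map (MulAut.conj (a * g)).toMonoidHom
  -- the Sylow subgroup
  have hNC : N' ≤ centralizer ({x 3 1} : Set X) := fun n hn => mem_centralizer_singleton_iff.mpr (hB'.le n hn)
  have hCN : centralizer ({x 3 1} : Set X) ≤ normalizer (N' : Set X) := by
    intro c hc
    apply mem_normalizer_of_conj_le
    intro n hn
    exact hB'.norm c (mem_centralizer_singleton_iff.mp hc) n hn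
  have hS := M.isSyl_CU.inf_normal hNC hCN
  set B := UU σ x ⊓ centralizer ({x 3 1} : Set X) with hBdef
  have hV : ∀ t ∈ B ⊓ N', t ∈ gen σ x {2, 4} → t = 1 := by
    intro t ht htV
    by_contra h1
    refine hB'.non t ht.2 ?_ h1 (M.cen_V htV h1)
    obtain ⟨b, d, hb, hd, rfl⟩ := h.mem_24.1 htV
    rw [h.q_mul hb hd (map_zero σ) hb hd (map_zero σ)]
    simp only [mul_zero, trc_zero_right, add_zero, h.add_self, h.q_zero]
  have hle : B ⊓ N' ≤ zpowers (x 3 1) := by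
    intro t ht
    have hn : ∀ b ∈ B, ∀ t ∈ B ⊓ N', b * t * b⁻¹ ∈ B ⊓ N' := fun b hb t ht =>
      ⟨mul_mem (mul_mem hb ht.1) (B.inv_mem hb), hB'.norm b (mem_centralizer_singleton_iff.mp hb.2) t ht.2⟩
    rcases M.T_le (T := B ⊓ N') inf_le_left ⟨⟨x_mem_gen (by rw [mem_arc]; decide) (ok3 1),
      mem_centralizer_singleton_iff.mpr rfl⟩, hB'.mem⟩ hn hV ht with rfl | rfl
    · exact one_mem _
    · exact mem_zpowers _
  have h2 : Nat.card ↥(zpowers (x 3 (1 : E))) ≤ 2 := by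
    rw [Nat.card_zpowers]
    exact Nat.le_of_dvd (by norm_num) (orderOf_dvd_of_pow_eq_one (by rw [pow_two, h.x_sq (ok3 1)]))
  have h3 : Nat.card ↥(B ⊓ N') ≤ 2 :=
    (Nat.card_le_card_of_injective _ (Subgroup.inclusion_injective hle)).trans h2
  -- `4 ∣ |N'|`
  obtain ⟨k, hk⟩ := hS.odd_relIndex
  have h4 := card_mul_relIndex (H := B ⊓ N') (K := N') inf_le_right
  have h5 := hB'.four
  rw [← h4, hk] at h5
  have h6 : 4 ∣ Nat.card ↥(B ⊓ N') := by
    have hc : Nat.Coprime 4 (2 * k + 1) := by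
      have : Nat.Coprime (2 ^ 2) (2 * k + 1) := Nat.Coprime.pow_left 2 (by
        rw [Nat.coprime_two_left]
        exact ⟨k, rfl⟩)
      simpa using this
    exact hc.dvd_of_dvd_mul_right h5
  have h7 : 0 < Nat.card ↥(B ⊓ N') := Nat.card_pos
  have := Nat.le_of_dvd h7 h6
  omega

end Mod

end Cfsg.Agent.OddHalf.D4.ThreeD4Two

end

-- merged: Cfsg.Agent.OddHalf.D4.ThreeD4Two.Bal
section

/-!
# ODD half, D4, `K ≅ ³D₄(2)`: `Z(U)` and balance
-/

set_option autoImplicit false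
set_option linter.unusedSectionVars false
set_option linter.unusedSimpArgs false

namespace Cfsg.Agent.OddHalf.D4.ThreeD4Two

open Subgroup Cfsg.Agent.StdRank2.Hex Cfsg.Agent.SplitTwo Cfsg.Agent.StdEven.Syl Cfsg.Agent.OddHalf.D4.Spor
open Cfsg.Agent.StdRank2.Hex.HexTwo (ok1 ok3 ok5 UU AA q uu q_mem uu_mem)
open scoped commutatorElement

/-- a subgroup of odd order contains no element of 2-power order -/
theorem eq_one_of_odd {X : Type*} [Group X] {I : Subgroup X} (hI : Odd (Nat.card ↥I)) {i : X} (hi : i ∈ I)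
    {P : Subgroup X} (hP : IsPGroup 2 ↥P) (hiP : i ∈ P) : i = 1 := by
  have h0 : Nat.card ↥I ≠ 0 := by
    intro h0
    rw [h0] at hI
    exact absurd hI (by decide)
  have := Nat.finite_of_card_ne_zero h0
  obtain ⟨n, hn⟩ := hP ⟨i, hiP⟩
  have hn' : i ^ 2 ^ n = 1 := congrArg Subtype.val hn
  have h1 : orderOf i ∣ 2 ^ n := orderOf_dvd_of_pow_eq_one hn'
  have h2 : orderOf i ∣ Nat.card ↥I := by
    have := orderOf_dvd_natCard (⟨i, hi⟩ : ↥I)
    rwa [Subgroup.orderOf_mk] at this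
  have h3 : orderOf i = 1 := Nat.eq_one_of_dvd_coprimes
    (Nat.Coprime.pow_left n ((Nat.coprime_two_left).2 hI)) h1 h2
  exact orderOf_eq_one_iff.1 h3

/-- a four-group (elements `a`, `b`, `ab`) acting fixed point freely on a group of odd order -/
theorem eq_bot_of_four {X : Type*} [Group X] [Finite X] {I : Subgroup X} {a b : X}
    (ha : a * a = 1) (hb : b * b = 1) (hna : ∀ i ∈ I, a * i * a⁻¹ ∈ I) (hnb : ∀ i ∈ I, b * i * b⁻¹ ∈ I)
    (hfa : ∀ i ∈ I, i * a = a * i → i = 1) (hfb : ∀ i ∈ I, i * b = b * i → i = 1)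
    (hfab : ∀ i ∈ I, i * (a * b) = a * b * i → i = 1) : I = ⊥ := by
  have key : ∀ c : X, c * c = 1 → (∀ i ∈ I, c * i * c⁻¹ ∈ I) → (∀ i ∈ I, i * c = c * i → i = 1) →
      ∀ i ∈ I, c * i * c⁻¹ = i⁻¹ := by
    intro c hc hn hf i hi
    have hcc : c⁻¹ = c := inv_eq_of_mul_eq_one_left hc
    let φ : ↥I →* ↥I :=
      { toFun := fun i => ⟨c * i * c⁻¹, hn i i.2⟩
        map_one' := Subtype.ext (by simp)
        map_mul' := fun i j => Subtype.ext (by
          show c * (i * j : X) * c⁻¹ = c * i * c⁻¹ * (c * j * c⁻¹)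
          group) }
    have h1 : MonoidHom.FixedPointFree (φ : ↥I → ↥I) := by
      intro i hi
      have h2 : c * (i : X) * c⁻¹ = i := congrArg Subtype.val hi
      exact Subtype.ext (hf i i.2 (mul_inv_eq_iff_eq_mul.mp h2).symm)
    have h2 : Function.Involutive (φ : ↥I → ↥I) := by
      intro i
      apply Subtype.ext
      show c * (c * (i : X) * c⁻¹) * c⁻¹ = i
      rw [hcc]
      calc c * (c * (i : X) * c) * c = (c * c) * i * (c * c) := by group
        _ = i := by rw [hc]; group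
    have h3 := MonoidHom.FixedPointFree.coe_eq_inv_of_involutive (φ := φ) h1 h2
    have h4 := congrFun h3 ⟨i, hi⟩
    exact congrArg Subtype.val h4
  rw [eq_bot_iff]
  intro i hi
  rw [mem_bot]
  refine hfab i hi ?_
  have h1 := key b hb hnb hfb i hi
  have h2 := key a ha hna hfa i⁻¹ (inv_mem hi)
  rw [inv_inv] at h2
  have h3 : a * b * i * (a * b)⁻¹ = i := by
    calc a * b * i * (a * b)⁻¹ = a * (b * i * b⁻¹) * a⁻¹ := by group
      _ = i := by rw [h1, h2]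
  exact (mul_inv_eq_iff_eq_mul.mp h3).symm

variable {E : Type*} [Field E] {σ : E ≃+* E} {X : Type*} [Group X] {x : ZMod 12 → E → X}

namespace Mod

variable (M : Mod σ x)

include M

/-- every involution is conjugate to `x 4 1` or `x 3 1` -/
theorem exists_std [Finite X] {w : X} (hw : w * w = 1) (hw1 : w ≠ 1) :
    ∃ g : X, g * w * g⁻¹ = x 4 1 ∨ g * w * g⁻¹ = x 3 1 := by
  have h := M.hex
  have := M.finE
  have hz : IsPGroup 2 ↥(zpowers w) := Cfsg.Agent.TriTwo.SecOne.isPGroup_zpowers (m := 1)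
    (by rw [pow_one, pow_two, hw])
  obtain ⟨g, -, hg⟩ := h.sylow_conj (S := AA σ x) (HexTwo.gen_le_AA _) le_rfl hz (by rw [M.top]; exact le_top)
  have hgU := hg w (mem_zpowers w)
  have hg2 : g * w * g⁻¹ * (g * w * g⁻¹) = 1 := by
    calc g * w * g⁻¹ * (g * w * g⁻¹) = g * (w * w) * g⁻¹ := by group
      _ = 1 := by rw [hw]; group
  have hg1 : g * w * g⁻¹ ≠ 1 := by
    intro h0
    apply hw1
    have : w = g⁻¹ * (g * w * g⁻¹) * g := by group
    rw [this, h0]; group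
  rcases h.cls_U hgU hg2 hg1 with ⟨a, -, ha⟩ | ⟨a, -, ha⟩
  · exact ⟨a * g, Or.inl (by rw [← ha]; group)⟩
  · exact ⟨a * g, Or.inr (by rw [← ha]; group)⟩

theorem mem_C4 {g : X} (hg : g * x 4 1 = x 4 1 * g) : g ∈ gen σ x (arc 1 7) := by
  have := M.finE
  exact (M.hex.mem_centralizer_x4 (M.mem_AA g) (map_one σ) one_ne_zero).1 (by rw [hg, mul_inv_cancel_right])

/-- `C(x 4 1)` normalises `Q₁` -/
theorem norm_Q1 {g y : X} (hg : g * x 4 1 = x 4 1 * g) (hy : y ∈ gen σ x (arc 2 5)) :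
    g * y * g⁻¹ ∈ gen σ x (arc 2 5) := by
  have h := M.hex
  obtain ⟨r, hr, l, hl, rfl⟩ := (h.mem_P 1).1 (M.mem_C4 hg)
  have h1 : l * y * l⁻¹ ∈ gen σ x (arc 2 5) := h.L_conj 1 hl hy
  have e : r * l * y * (r * l)⁻¹ = r * (l * y * l⁻¹) * r⁻¹ := by group
  rw [e]
  have hr' : r ∈ gen σ x (arc 2 5) := hr
  exact mul_mem (mul_mem hr' h1) (inv_mem hr')

theorem Q1_le_U : gen σ x (arc 2 5) ≤ UU σ x :=
  gen_mono fun l hl => arc_succ_sub (k := 1) (n := 5) (by norm_num) hl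

theorem two_Q1 [Finite E] : IsPGroup 2 ↥(gen σ x (arc 2 5)) := M.hex.isPGroup_U.to_le M.Q1_le_U

/-- an element of odd order centralising `x 4 1` and `Q₁` is trivial -/
theorem eq_one_of_cent_Q1 {I : Subgroup X} (hI : Odd (Nat.card ↥I)) {i : X} (hi : i ∈ I)
    (hc : ∀ v ∈ gen σ x (arc 2 5), i * v = v * i) : i = 1 := by
  have := M.finE
  have h1 : i ∈ gen σ x {4} := M.hex.mem_X4_of (M.mem_AA i) fun v hv => hc v hv
  have h2 : gen σ x {4} ≤ UU σ x := gen_mono (by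
    intro l hl
    rw [Set.mem_singleton_iff] at hl
    subst hl
    rw [mem_arc]; decide)
  exact eq_one_of_odd hI hi M.hex.isPGroup_U (h2 h1)

/-- `O(C(x 4 1)) = 1` -/
theorem bal4 {I : Subgroup X} (hI : ∀ i ∈ I, i * x 4 1 = x 4 1 * i)
    (hn : ∀ c : X, c * x 4 1 = x 4 1 * c → ∀ i ∈ I, c * i * c⁻¹ ∈ I) (ho : Odd (Nat.card ↥I)) : I = ⊥ := by
  have := M.finE
  rw [eq_bot_iff]
  intro i hi
  rw [mem_bot]
  refine M.eq_one_of_cent_Q1 ho hi fun v hv => ?_
  have h1 : i * v * i⁻¹ * v⁻¹ ∈ gen σ x (arc 2 5) := mul_mem (M.norm_Q1 (hI i hi) hv) (inv_mem hv)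
  have h2 : i * v * i⁻¹ * v⁻¹ ∈ I := by
    have e : i * v * i⁻¹ * v⁻¹ = i * (v * i⁻¹ * v⁻¹) := by group
    rw [e]
    exact mul_mem hi (hn v (M.x4_comm (M.Q1_le_U hv)) _ (inv_mem hi))
  have h3 := eq_one_of_odd ho h2 M.two_Q1 h1
  rw [mul_inv_eq_one] at h3
  exact mul_inv_eq_iff_eq_mul.mp h3

/-- `x 3 1` commutes modulo `X₄` with `Q₁` -/
theorem Q1_x3 {v : X} (hv : v ∈ gen σ x (arc 2 5)) : v * x 3 1 * v⁻¹ = x 3 1 ∨ v * x 3 1 * v⁻¹ = x 4 1 * x 3 1 := by
  have h := M.hex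
  have z : σ (0 : E) = 0 := map_zero σ
  obtain ⟨b, c, d, e, f, hb, hd, hf, rfl⟩ := h.mem_Q1.1 hv
  have h1 := h.uu_x3 (a := 0) (b := b) (c := c) (d := d) (e := e) (f := f) hb hd hf 1
  rw [h.uq, trc_zero_left] at h1
  rw [h1, mul_inv_cancel_right, h.q_234, h.x_zero, one_mul]
  rcases M.fix _ (h.fix_trc 1 e) with h2 | h2
  · left; rw [h2, h.x_zero, mul_one]
  · right; rw [h2, h.s34 1 (map_one σ)]

/-- no element `≠ 1` of a subgroup of odd order, normalised by `C(x 3 1)`, centralises `x 3 1` and `x 4 1`. -/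
theorem no_fix4 {I : Subgroup X} (hI : ∀ i ∈ I, i * x 3 1 = x 3 1 * i)
    (hn : ∀ c : X, c * x 3 1 = x 3 1 * c → ∀ i ∈ I, c * i * c⁻¹ ∈ I) (ho : Odd (Nat.card ↥I)) {i : X} (hi : i ∈ I)
    (hi4 : i * x 4 1 = x 4 1 * i) : i = 1 := by
  have := M.finE
  -- `i` centralises `C_{Q₁}(x 3 1)`
  have hD : ∀ v ∈ gen σ x (arc 2 5), v * x 3 1 = x 3 1 * v → i * v = v * i := by
    intro v hv hv3
    have h1 : i * v * i⁻¹ * v⁻¹ ∈ gen σ x (arc 2 5) := mul_mem (M.norm_Q1 hi4 hv) (inv_mem hv)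
    have h2 : i * v * i⁻¹ * v⁻¹ ∈ I := by
      have e : i * v * i⁻¹ * v⁻¹ = i * (v * i⁻¹ * v⁻¹) := by group
      rw [e]
      exact mul_mem hi (hn v hv3 _ (inv_mem hi))
    have h3 := eq_one_of_odd ho h2 M.two_Q1 h1
    rw [mul_inv_eq_one] at h3
    exact mul_inv_eq_iff_eq_mul.mp h3
  refine M.eq_one_of_cent_Q1 ho hi fun v hv => ?_
  set d := v⁻¹ * (i * v * i⁻¹) with hd
  have hdQ : d ∈ gen σ x (arc 2 5) := mul_mem (inv_mem hv) (M.norm_Q1 hi4 hv)
  have hd3 : d * x 3 1 = x 3 1 * d := by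
    have hi3 : i⁻¹ * x 3 1 * i = x 3 1 := by rw [mul_assoc, ← hI i hi]; group
    have hi34 : i * (x 4 1 * x 3 1) * i⁻¹ = x 4 1 * x 3 1 := by
      calc i * (x 4 1 * x 3 1) * i⁻¹ = (i * x 4 1) * x 3 1 * i⁻¹ := by group
        _ = x 4 1 * (i * x 3 1) * i⁻¹ := by rw [hi4]; group
        _ = _ := by rw [hI i hi]; group
    have e1 : (i * v * i⁻¹) * x 3 1 * (i * v * i⁻¹)⁻¹ = v * x 3 1 * v⁻¹ := by
      calc (i * v * i⁻¹) * x 3 1 * (i * v * i⁻¹)⁻¹ = i * (v * (i⁻¹ * x 3 1 * i) * v⁻¹) * i⁻¹ := by group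
        _ = i * (v * x 3 1 * v⁻¹) * i⁻¹ := by rw [hi3]
        _ = v * x 3 1 * v⁻¹ := by
          rcases M.Q1_x3 hv with h1 | h1
          · rw [h1, hI i hi, mul_inv_cancel_right]
          · rw [h1, hi34]
    have e2 : d * x 3 1 * d⁻¹ = x 3 1 := by
      calc d * x 3 1 * d⁻¹ = v⁻¹ * ((i * v * i⁻¹) * x 3 1 * (i * v * i⁻¹)⁻¹) * v := by rw [hd]; group
        _ = x 3 1 := by rw [e1]; group
    exact mul_inv_eq_iff_eq_mul.mp e2
  have hid : i * d = d * i := hD d hdQ hd3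
  -- `i ^ n * v * i ^ (-n) = v * d ^ n`
  have hpow : ∀ n : ℕ, i ^ n * v * (i ^ n)⁻¹ = v * d ^ n := by
    intro n
    induction n with
    | zero => simp
    | succ n ih =>
      have hc : i * d ^ n * i⁻¹ = d ^ n := by
        have : Commute i d := hid
        rw [(this.pow_right n).eq, mul_inv_cancel_right]
      calc i ^ (n + 1) * v * (i ^ (n + 1))⁻¹ = i * (i ^ n * v * (i ^ n)⁻¹) * i⁻¹ := by rw [pow_succ']; group
        _ = i * (v * d ^ n) * i⁻¹ := by rw [ih]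
        _ = (i * v * i⁻¹) * (i * d ^ n * i⁻¹) := by group
        _ = v * d * d ^ n := by rw [hc, hd]; group
        _ = v * d ^ (n + 1) := by rw [pow_succ']; group
  have h0 : Nat.card ↥I ≠ 0 := by
    intro h0
    rw [h0] at ho
    exact absurd ho (by decide)
  have hfin := Nat.finite_of_card_ne_zero h0
  have hin : i ^ Nat.card ↥I = 1 := by
    have := pow_card_eq_one' (x := (⟨i, hi⟩ : ↥I))
    exact congrArg Subtype.val this
  have h1 := hpow (Nat.card ↥I)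
  rw [hin] at h1
  have h2 : d ^ Nat.card ↥I = 1 := by
    have : v = v * d ^ Nat.card ↥I := by
      calc v = 1 * v * (1 : X)⁻¹ := by group
        _ = _ := h1
    exact (mul_eq_left.mp this.symm)
  obtain ⟨m, hm⟩ := M.two_Q1 ⟨d, hdQ⟩
  have hm' : d ^ 2 ^ m = 1 := congrArg Subtype.val hm
  have h3 : orderOf d = 1 := Nat.eq_one_of_dvd_coprimes
    (Nat.Coprime.pow_left m ((Nat.coprime_two_left).2 ho)) (orderOf_dvd_of_pow_eq_one hm') (orderOf_dvd_of_pow_eq_one h2)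
  have h4 : d = 1 := orderOf_eq_one_iff.1 h3
  rw [hd, inv_mul_eq_one] at h4
  exact (mul_inv_eq_iff_eq_mul.mp h4.symm)

/-- `O(C(x 3 1)) = 1` -/
theorem bal3 [Finite X] {I : Subgroup X} (hI : ∀ i ∈ I, i * x 3 1 = x 3 1 * i)
    (hn : ∀ c : X, c * x 3 1 = x 3 1 * c → ∀ i ∈ I, c * i * c⁻¹ ∈ I) (ho : Odd (Nat.card ↥I)) : I = ⊥ := by
  have h := M.hex
  have o : σ (1 : E) = 1 := map_one σ
  have hfix : ∀ v ∈ gen σ x {2, 4}, v ≠ 1 → ∀ i ∈ I, i * v = v * i → i = 1 := by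
    intro v hv hv1 i hi hiv
    obtain ⟨g, hg, hg3, -⟩ := M.conj_x4_of_V hv hv1
    have hgc : g * x 3 1 = x 3 1 * g := mul_inv_eq_iff_eq_mul.mp (hg3 1)
    have h1 := M.no_fix4 hI hn ho (hn g hgc i hi) (by
      rw [← hg]
      calc g * i * g⁻¹ * (g * v * g⁻¹) = g * (i * v) * g⁻¹ := by group
        _ = g * (v * i) * g⁻¹ := by rw [hiv]
        _ = _ := by group)
    have : i = g⁻¹ * (g * i * g⁻¹) * g := by group
    rw [this, h1]; group
  have ne2 : x 2 1 ≠ 1 := fun h0 => one_ne_zero ((h.x_eq_one (ok_one σ 2)).1 h0)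
  have ne4 : x 4 1 ≠ 1 := fun h0 => one_ne_zero ((h.x_eq_one (ok_one σ 4)).1 h0)
  have ne24 : x 2 1 * x 4 1 ≠ 1 := by
    intro h0
    have h1 : q x 1 0 1 0 0 = q x 0 0 0 0 0 := by rw [h.q_234, h.x_zero, mul_one, h0, h.q_zero]
    exact one_ne_zero (h.q_inj o o (map_zero σ) (map_zero σ) (map_zero σ) (map_zero σ) h1).1
  have c2 : x 2 1 * x 3 1 = x 3 1 * x 2 1 := h.s23 o 1
  have c4 : x 4 1 * x 3 1 = x 3 1 * x 4 1 := (h.s34 1 o).symm
  refine eq_bot_of_four (a := x 2 1) (b := x 4 1) (h.x_sq (ok_one σ 2)) (h.x_sq (ok_one σ 4)) (hn _ c2) (hn _ c4)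
    (hfix _ (x_mem_gen (by simp) (ok_one σ 2)) ne2) (hfix _ (x_mem_gen (by simp) (ok_one σ 4)) ne4)
    (hfix _ (mul_mem (x_mem_gen (by simp) (ok_one σ 2)) (x_mem_gen (by simp) (ok_one σ 4))) ne24)

/-- **balance** -/
theorem bal [Finite X] (a : X) (ha : a * a = 1) (ha1 : a ≠ 1) (I : Subgroup X) (hI : ∀ i ∈ I, i * a = a * i)
    (hn : ∀ c : X, c * a = a * c → ∀ i ∈ I, c * i * c⁻¹ ∈ I) (ho : Odd (Nat.card ↥I)) : I = ⊥ := by
  obtain ⟨g, hg⟩ := M.exists_std ha ha1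
  set I' := I.map (MulAut.conj g).toMonoidHom with hI'
  have hcard : Nat.card ↥I' = Nat.card ↥I :=
    (Nat.card_congr (I.equivMapOfInjective (MulAut.conj g).toMonoidHom (MulAut.conj g).injective).toEquiv).symm
  have h1 : ∀ i ∈ I', i * (g * a * g⁻¹) = g * a * g⁻¹ * i := by
    rintro _ ⟨i, hi, rfl⟩
    show g * i * g⁻¹ * (g * a * g⁻¹) = g * a * g⁻¹ * (g * i * g⁻¹)
    calc g * i * g⁻¹ * (g * a * g⁻¹) = g * (i * a) * g⁻¹ := by group
      _ = g * (a * i) * g⁻¹ := by rw [hI i hi]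
      _ = _ := by group
  have h2 : ∀ c : X, c * (g * a * g⁻¹) = g * a * g⁻¹ * c → ∀ i ∈ I', c * i * c⁻¹ ∈ I' := by
    rintro c hc _ ⟨i, hi, rfl⟩
    have hc' : (g⁻¹ * c * g) * a = a * (g⁻¹ * c * g) := by
      calc (g⁻¹ * c * g) * a = g⁻¹ * (c * (g * a * g⁻¹)) * g := by group
        _ = g⁻¹ * (g * a * g⁻¹ * c) * g := by rw [hc]
        _ = _ := by group
    refine ⟨_, hn _ hc' i hi, ?_⟩
    show g * (g⁻¹ * c * g * i * (g⁻¹ * c * g)⁻¹) * g⁻¹ = c * (g * i * g⁻¹) * c⁻¹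
    group
  have h3 : I' = ⊥ := by
    rcases hg with hg | hg
    · rw [hg] at h1 h2
      exact M.bal4 h1 h2 (by rw [hcard]; exact ho)
    · rw [hg] at h1 h2
      exact M.bal3 h1 h2 (by rw [hcard]; exact ho)
  rw [hI', Subgroup.map_eq_bot_iff_of_injective _ (MulAut.conj g).injective] at h3
  exact h3

/-- every Sylow 2-subgroup is conjugate to `U` -/
theorem exists_conj_U [Finite X] (S : Sylow 2 X) : ∃ p : X, ∀ y, y ∈ S ↔ p * y * p⁻¹ ∈ UU σ x := by
  have := M.finE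
  obtain ⟨p, -, hp⟩ := M.hex.sylow_conj (S := AA σ x) (HexTwo.gen_le_AA _) le_rfl S.2 (by rw [M.top]; exact le_top)
  refine ⟨p, fun y => ⟨hp y, fun hy => ?_⟩⟩
  have h1 : IsPGroup 2 ↥((UU σ x).map (MulAut.conj p⁻¹).toMonoidHom) := M.hex.isPGroup_U.map _
  have h2 : (S : Subgroup X) ≤ (UU σ x).map (MulAut.conj p⁻¹).toMonoidHom := by
    intro s hs
    rw [mem_map_conj, inv_inv]
    exact hp s hs
  have h3 := S.3 h1 h2
  show y ∈ (S : Subgroup X)
  rw [← h3, mem_map_conj, inv_inv]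
  exact hy

/-- the centre of a Sylow 2-subgroup contains only one involution -/
theorem z1 [Finite X] (S : Sylow 2 X) (a : X) (ha : a ∈ S) (ha1 : a ≠ 1) (hac : ∀ s ∈ S, s * a = a * s)
    (b : X) (hb : b ∈ S) (hb1 : b ≠ 1) (hbc : ∀ s ∈ S, s * b = b * s) : a = b := by
  obtain ⟨p, hp⟩ := M.exists_conj_U S
  have key : ∀ c ∈ S, c ≠ 1 → (∀ s ∈ S, s * c = c * s) → p * c * p⁻¹ = x 4 1 := by
    intro c hc hc1 hcc
    have h1 : p * c * p⁻¹ ∈ gen σ x {4} := by
      refine M.hex.mem_X4_of_U ((hp c).1 hc) fun v hv => ?_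
      have h2 : p⁻¹ * v * p ∈ S := by
        rw [hp]
        have : p * (p⁻¹ * v * p) * p⁻¹ = v := by group
        rwa [this]
      have h3 := hcc _ h2
      show p * c * p⁻¹ * v = v * (p * c * p⁻¹)
      calc p * c * p⁻¹ * v = p * (c * (p⁻¹ * v * p)) * p⁻¹ := by group
        _ = p * (p⁻¹ * v * p * c) * p⁻¹ := by rw [h3]
        _ = _ := by group
    rcases M.mem_Z.1 h1 with h2 | h2
    · exfalso
      apply hc1
      have : c = p⁻¹ * (p * c * p⁻¹) * p := by group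
      rw [this, h2]; group
    · exact h2
  have h1 := key a ha ha1 hac
  have h2 := key b hb hb1 hbc
  rw [← h2] at h1
  exact mul_left_cancel (mul_right_cancel h1)

end Mod

end Cfsg.Agent.OddHalf.D4.ThreeD4Two

end
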